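import Groth.Agent.GITSS.LocalQuot
import Groth.Agent.GITQuot.UnivCat
import Mathlib.AlgebraicGeometry.ResidueField

/-!
# Geometric quotients are local on the quotient
-/

set_option autoImplicit false
set_option backward.isDefEq.respectTransparency false
set_option backward.isDefEq.respectTransparency.types false
set_option linter.style.haveILetI false

universe u

open CategoryTheory CategoryTheory.Limits MonoidalCategory CartesianMonoidalCategory MonObj AlgebraicGeometry Topology

noncomputable section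

namespace Groth.Agent.GITSS

variable {S : Scheme.{u}} {G X Y : Over S} [GrpObj G] {a : AlgGrp.Action G X} {φ : X ⟶ Y}

theorem isUnivCatQuot_of_isUnivGeomQuot (h : GIT.IsUnivGeomQuot a φ) : GIT.IsUnivCatQuot a φ :=
  ⟨GITQuot.isCatQuot h.1, fun _ _ pr φ' g hg hpb a' he hi => GITQuot.isCatQuot (h.2 pr φ' g hg hpb a' he hi)⟩

/-- A universal geometric quotient over each member of an open cover is one. -/
theorem isUnivGeomQuot_of_cover (hi : GIT.IsInvariant a φ) {J : Type u} (V : J → Y.left.Opens)
    (hV : ∀ y, ∃ j, y ∈ V j)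
    (h : ∀ (j : J) (aV : AlgGrp.Action G (opS (φ.left ⁻¹ᵁ V j))), aV.act ≫ iS _ = (G ◁ iS _) ≫ a.act →
      GIT.IsUnivGeomQuot aV (resS φ (V j))) :
    GIT.IsUnivGeomQuot a φ := by
  have hcat : GIT.IsUnivCatQuot a φ :=
    isUnivCatQuot_of_cover hi V hV fun j aV e => isUnivCatQuot_of_isUnivGeomQuot (h j aV e)
  have hact := fun j => GITQuot.exists_action hi (isPullback_resS φ (V j))
  choose aV haV _hinv using hact
  have hsub : GIT.IsUnivSubmersive φ.left :=
    isUnivSubmersive_of_cover φ.left V hV fun j => (h j (aV j) (haV j)).1.subm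
  have horb : Function.Surjective (GIT.PsiY a φ hi).base := by
    intro z
    obtain ⟨j, hj⟩ := hV (φ.left.base ((pullback.fst φ.left φ.left).base z))
    let pt := (pullback φ.left φ.left).fromSpecResidueField z
    have hptz : ∀ o, pt.base o = z := fun o => Scheme.fromSpecResidueField_apply z o
    have h1 : Set.range (pt ≫ pullback.fst φ.left φ.left).base ⊆ Set.range (φ.left ⁻¹ᵁ V j).ι.base := by
      rw [Scheme.Opens.range_ι]
      rintro _ ⟨o, rfl⟩
      rw [Scheme.Hom.comp_apply, hptz]
      exact hj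
    have h2 : Set.range (pt ≫ pullback.snd φ.left φ.left).base ⊆ Set.range (φ.left ⁻¹ᵁ V j).ι.base := by
      rw [Scheme.Opens.range_ι]
      rintro _ ⟨o, rfl⟩
      rw [Scheme.Hom.comp_apply, hptz]
      show (pullback.snd φ.left φ.left ≫ φ.left).base z ∈ V j
      rw [← pullback.condition]
      exact hj
    have hc : IsOpenImmersion.lift _ _ h1 ≫ (φ.left ∣_ V j) = IsOpenImmersion.lift _ _ h2 ≫ (φ.left ∣_ V j) := by
      rw [← cancel_mono (V j).ι, Category.assoc, Category.assoc, morphismRestrict_ι, ← Category.assoc, ← Category.assoc,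
        IsOpenImmersion.lift_fac, IsOpenImmersion.lift_fac, Category.assoc, Category.assoc, pullback.condition]
    let l : Spec ((pullback φ.left φ.left).residueField z) ⟶ pullback (φ.left ∣_ V j) (φ.left ∣_ V j) :=
      pullback.lift _ _ hc
    let M : pullback (φ.left ∣_ V j) (φ.left ∣_ V j) ⟶ pullback φ.left φ.left :=
      pullback.lift (pullback.fst _ _ ≫ (φ.left ⁻¹ᵁ V j).ι) (pullback.snd _ _ ≫ (φ.left ⁻¹ᵁ V j).ι) (by
        rw [Category.assoc, Category.assoc, ← morphismRestrict_ι, ← Category.assoc, ← Category.assoc, pullback.condition])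
    have hlM : l ≫ M = pt := by
      apply pullback.hom_ext
      · simp only [l, M, Category.assoc, pullback.lift_fst, pullback.lift_fst_assoc]
        exact IsOpenImmersion.lift_fac _ _ _
      · simp only [l, M, Category.assoc, pullback.lift_snd, pullback.lift_snd_assoc]
        exact IsOpenImmersion.lift_fac _ _ _
    have hi' := (h j (aV j) (haV j)).1.inv
    obtain ⟨w, hw⟩ := (h j (aV j) (haV j)).1.orbit (l.base (IsLocalRing.closedPoint _))
    have hM : GIT.PsiY (aV j) (resS φ (V j)) hi' ≫ M = (G ◁ iS (φ.left ⁻¹ᵁ V j)).left ≫ GIT.PsiY a φ hi := by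
      apply pullback.hom_ext
      · rw [Category.assoc, Category.assoc]
        erw [pullback.lift_fst, pullback.lift_fst, ← Category.assoc, pullback.lift_fst]
        exact congrArg CommaMorphism.left (haV j)
      · rw [Category.assoc, Category.assoc]
        erw [pullback.lift_snd, pullback.lift_snd, ← Category.assoc, pullback.lift_snd]
        exact congrArg CommaMorphism.left (whiskerLeft_snd G (iS (φ.left ⁻¹ᵁ V j))).symm
    refine ⟨(G ◁ iS (φ.left ⁻¹ᵁ V j)).left.base w, ?_⟩
    rw [← Scheme.Hom.comp_apply, ← hM, Scheme.Hom.comp_apply, hw]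
    show (l ≫ M).base _ = z
    rw [hlM, hptz]
  refine ⟨⟨hi, fun y => ?_, horb, hsub, GITQuot.sections_of_isUnivCatQuot hcat⟩,
    fun X' Y' pr φ' g _ hpb a' heq hinv => ?_⟩
  · obtain ⟨j, hj⟩ := hV y
    obtain ⟨x, hx⟩ := (h j (aV j) (haV j)).1.surj ⟨y, hj⟩
    have e : φ.left.base ((φ.left ⁻¹ᵁ V j).ι.base x) = (V j).ι.base ((φ.left ∣_ V j).base x) := by
      rw [← Scheme.Hom.comp_apply, ← Scheme.Hom.comp_apply, morphismRestrict_ι]
    exact ⟨(φ.left ⁻¹ᵁ V j).ι.base x, e.trans (congrArg (fun t => (V j).ι.base t) hx)⟩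
  · have hc' := GITQuot.isUnivCatQuot_baseChange hcat hpb a' heq hinv
    exact ⟨hinv, GITQuot.surjective_of_isUnivCatQuot hc', GITQuot.orbit_baseChange hi horb hpb a' heq hinv,
      MorphismProperty.IsStableUnderBaseChange.of_isPullback
        (P := MorphismProperty.universally (AlgebraicGeometry.topologically @IsQuotientMap))
        (GITQuot.isPullback_left hpb) hsub,
      GITQuot.sections_of_isUnivCatQuot hc'⟩

/-- Universal geometric quotients are stable under base change. -/
theorem isUnivGeomQuot_baseChange {X' Y' : Over S} {pr : X' ⟶ X} {φ' : X' ⟶ Y'} {g : Y' ⟶ Y}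
    (h : GIT.IsUnivGeomQuot a φ) (hpb : IsPullback pr φ' φ g) (a' : AlgGrp.Action G X')
    (heq : a'.act ≫ pr = (G ◁ pr) ≫ a.act) (hinv : GIT.IsInvariant a' φ') : GIT.IsUnivGeomQuot a' φ' := by
  refine ⟨h.2 pr φ' g trivial hpb a' heq hinv, fun X'' Y'' pr' φ'' g' _ hpb' a'' heq' hinv'' => ?_⟩
  refine h.2 (pr' ≫ pr) φ'' (g' ≫ g) trivial (hpb'.paste_horiz hpb) a'' ?_ hinv''
  rw [← Category.assoc, heq', Category.assoc, heq, ← Category.assoc, ← MonoidalCategory.whiskerLeft_comp]

end Groth.Agent.GITSS
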