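import Groth.Agent.GITSS.Construct
import Groth.Agent.GITSS.GeomLocal
import Groth.Agent.GITAff.Orbit

/-!
# The geometric quotient of the stable locus
-/

set_option autoImplicit false
set_option backward.isDefEq.respectTransparency false
set_option backward.isDefEq.respectTransparency.types false
set_option linter.style.haveILetI false

universe u

open CategoryTheory CategoryTheory.Limits MonoidalCategory CartesianMonoidalCategory MonObj AlgebraicGeometry Opposite TopologicalSpace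

noncomputable section

namespace Groth.Agent.GITSS

open HMProj GrpSchLib GrpSchLib.Kunneth

variable {k : Type u} [Field k] {G X : Over (Spec (CommRingCat.of k))} [GrpObj G] {a : AlgGrp.Action G X}

/-- Orbits closed in an invariant open give a closed action on it. -/
theorem isClosedAction_of_closedOrbitsOn {W : X.left.Opens} (hcl : GLinSh.ClosedOrbitsOn a W)
    {Z : Over (Spec (CommRingCat.of k))} (j : Z ⟶ X) [IsOpenImmersion j.left]
    (hr : Set.range j.left.base = (W : Set X.left)) (aZ : AlgGrp.Action G Z)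
    (h : aZ.act ≫ j = (G ◁ j) ≫ a.act) : GIT.IsClosedAction aZ := by
  intro Ω _ _ T e f
  haveI : IsOpenImmersion (j ▷ T).left :=
    MorphismProperty.of_isPullback (P := @IsOpenImmersion)
      ((GITQuot.isPullback_left (GITAff.isPullback_fst_whiskerRight j T))) ‹IsOpenImmersion j.left›
  have hψ : GIT.psi aZ f ≫ (j ▷ T) = GIT.psi a (f ≫ j) := by
    apply CartesianMonoidalCategory.hom_ext
    · simp only [GIT.psi, Category.assoc, whiskerRight_fst, lift_fst, lift_fst_assoc]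
      rw [h, ← Category.assoc, ← MonoidalCategory.whiskerLeft_comp]
    · simp [GIT.psi]
  have hc := hcl Ω T e (f ≫ j) (by
    rintro _ ⟨t, rfl⟩
    exact hr.le ⟨f.left.base t, rfl⟩)
  have hmem : ∀ p : (Z ⊗ T).left, (j ▷ T).left.base p ∈ (fst X T).left ⁻¹ᵁ W := fun p => by
    show (fst X T).left.base ((j ▷ T).left.base p) ∈ (W : Set X.left)
    rw [← Scheme.Hom.comp_apply, ← Over.comp_left, whiskerRight_fst, Over.comp_left, Scheme.Hom.comp_apply, ← hr]
    exact ⟨_, rfl⟩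
  let m : (Z ⊗ T).left → (fst X T).left ⁻¹ᵁ W := fun p => ⟨(j ▷ T).left.base p, hmem p⟩
  have hm : Continuous m := ((j ▷ T).left.continuous).subtype_mk hmem
  convert hc.preimage hm using 1
  ext p
  constructor
  · rintro ⟨w, rfl⟩
    exact ⟨w, by rw [← hψ]; rfl⟩
  · rintro ⟨w, hw⟩
    refine ⟨w, (j ▷ T).left.isOpenEmbedding.injective ?_⟩
    rw [← Scheme.Hom.comp_apply, ← Over.comp_left, hψ]
    exact hw

/-- Charts adapted to the stable locus. -/
theorem exists_charts_stable [CharZero k] (hG : Red.IsReductive G) [LocallyOfFiniteType X.hom] [QuasiCompact X.hom]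
    (B : GLinSh.LinBun G a) {U Us : X.left.Opens} (hU : (U : Set X.left) = B.ssLocus)
    (hUs : (Us : Set X.left) = B.sLocus) :
    ∃ C : Charts B, C.tot = U ∧ C.Generated ∧ ∃ S : Set C.κ,
      (∀ i ∈ S, GLinSh.ClosedOrbitsOn a (C.U i)) ∧ ⨆ i : S, C.U i = Us := by
  classical
  haveI : CompactSpace X.left := QuasiCompact.compactSpace_of_compactSpace X.hom
  haveI : IsLocallyNoetherian X.left := LocallyOfFiniteType.isLocallyNoetherian X.hom
  haveI : IsNoetherian X.left := {}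
  have hw : ∀ x : U, B.IsSemistablePt x.1 := fun x => by
    have := x.2
    rw [← SetLike.mem_coe, hU] at this
    exact this
  have hw' : ∀ x : Us, B.IsStablePt x.1 := fun x => by
    have := x.2
    rw [← SetLike.mem_coe, hUs] at this
    exact this
  choose n f hn hf hxf W hW hWa using hw
  choose n' f' hn' hf' hxf' W' hW' hWa' hcl' using hw'
  obtain ⟨s, hs⟩ := (NoetherianSpace.isCompact (U : Set X.left)).elim_finite_subcover
    (fun x : U => ((W x : X.left.Opens) : Set X.left)) (fun x => (W x).2)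
    (fun x hx => Set.mem_iUnion.2 ⟨⟨x, hx⟩, by rw [hW]; exact hxf ⟨x, hx⟩⟩)
  obtain ⟨s', hs'⟩ := (NoetherianSpace.isCompact (Us : Set X.left)).elim_finite_subcover
    (fun x : Us => ((W' x : X.left.Opens) : Set X.left)) (fun x => (W' x).2)
    (fun x hx => Set.mem_iUnion.2 ⟨⟨x, hx⟩, by rw [hW']; exact hxf' ⟨x, hx⟩⟩)
  obtain ⟨C, hC, hgen, -, hidx⟩ := exists_charts_of_family hG B (s := s ⊕ s')
    (Sum.elim (fun x => n x.1) fun x => n' x.1) (Sum.elim (fun x => f x.1) fun x => f' x.1)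
    (Sum.elim (fun x => W x.1) fun x => W' x.1)
    (by rintro (x | x) <;> first | exact hn x.1 | exact hn' x.1)
    (by rintro (x | x) <;> first | exact hf x.1 | exact hf' x.1)
    (by rintro (x | x) <;> first | exact hW x.1 | exact hW' x.1)
    (by rintro (x | x) <;> first | exact hWa x.1 | exact hWa' x.1)
  refine ⟨C, hC.trans (le_antisymm (iSup_le fun x => fun y hy => ?_) fun y hy => ?_), hgen,
    {i | GLinSh.ClosedOrbitsOn a (C.U i)}, fun i hi => hi, le_antisymm (iSup_le fun i => fun y hy => ?_) fun y hy => ?_⟩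
  · show y ∈ (U : Set X.left)
    rw [hU]
    rcases x with x | x
    · exact ⟨n x.1, f x.1, hn x.1, hf x.1, (hW x.1).le hy, W x.1, hW x.1, hWa x.1⟩
    · exact ⟨n' x.1, f' x.1, hn' x.1, hf' x.1, (hW' x.1).le hy, W' x.1, hW' x.1, hWa' x.1⟩
  · obtain ⟨x, hx, hyx⟩ := Set.mem_iUnion₂.1 (hs hy)
    exact Opens.mem_iSup.2 ⟨Sum.inl (⟨x, hx⟩ : s), hyx⟩
  · show y ∈ (Us : Set X.left)
    rw [hUs]
    exact ⟨C.n, C.g (C.idx i.1), C.hn, C.hg _, (C.hU i.1).le hy, C.U i.1, C.hU i.1, C.hUa i.1, i.2⟩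
  · obtain ⟨x, hx, hyx⟩ := Set.mem_iUnion₂.1 (hs' hy)
    obtain ⟨i, hi⟩ := hidx (Sum.inr (⟨x, hx⟩ : s'))
    refine Opens.mem_iSup.2 ⟨⟨i, ?_⟩, ?_⟩
    · show GLinSh.ClosedOrbitsOn a (C.U i)
      rw [hi]; exact hcl' x
    · show y ∈ C.U i
      rw [hi]; exact hyx

/-- The geometric quotient of the stable locus inside any categorical quotient of the semistable locus. -/
theorem exists_geomQuot [CharZero k] (hG : Red.IsReductive G) [LocallyOfFiniteType X.hom] [QuasiCompact X.hom]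
    (B : GLinSh.LinBun G a) {U : X.left.Opens} (hU : (U : Set X.left) = B.ssLocus)
    (aU : AlgGrp.Action G (opS U)) (haU : aU.act ≫ iS U = (G ◁ iS U) ≫ a.act)
    {Y : Over (Spec (CommRingCat.of k))} (φ : opS U ⟶ Y) (hφ : GIT.IsCatQuot aU φ)
    {Us : X.left.Opens} (hUs : (Us : Set X.left) = B.sLocus) (hle : Us ≤ U)
    (aS : AlgGrp.Action G (opS Us)) (haS : aS.act ≫ iS Us = (G ◁ iS Us) ≫ a.act) :
    ∃ (Yt : Y.left.Opens) (φs : opS Us ⟶ opS Yt),
      φs.left ≫ Yt.ι = X.left.homOfLE hle ≫ φ.left ∧ φ.left ⁻¹ᵁ Yt = U.ι ⁻¹ᵁ Us ∧ GIT.IsUnivGeomQuot aS φs := by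
  haveI := GITAff.isAffine_of_isReductive hG
  haveI := hG.2.1
  obtain ⟨β, hβ⟩ := GITAff.exists_isInv hG
  obtain ⟨C, rfl, hgen, S, hS, hSU⟩ := exists_charts_stable hG B hU hUs
  obtain ⟨⟨hCcat, -⟩, -⟩ := C.isUnivCatQuot_φ hβ hgen aU haU
  obtain ⟨χ, hχ, -⟩ := hφ.2 _ _ hCcat.1
  obtain ⟨χ', hχ', -⟩ := hCcat.2 _ _ hφ.1
  have e1 : χ ≫ χ' = 𝟙 Y :=
    (hφ.2 _ _ hφ.1).unique (by rw [← Category.assoc, hχ, hχ']) (Category.comp_id _)
  have e2 : χ' ≫ χ = 𝟙 C.Y := (hCcat.2 _ _ hCcat.1).unique (by rw [← Category.assoc, hχ', hχ]) (Category.comp_id _)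
  haveI : IsIso χ := ⟨χ', e1, e2⟩
  let Yt : Y.left.Opens := χ.left ⁻¹ᵁ ⨆ i : S, C.Yi i.1
  have hYt : φ.left ⁻¹ᵁ Yt = C.tot.ι ⁻¹ᵁ Us := by
    rw [← Scheme.Hom.comp_preimage, show φ.left ≫ χ.left = C.φ.left from congrArg CommaMorphism.left hχ,
      Scheme.Hom.preimage_iSup]
    simp only [C.preimage_Yi, ← Scheme.Hom.preimage_iSup, hSU]
  have hrange : Set.range (X.left.homOfLE hle ≫ φ.left).base ⊆ Set.range Yt.ι.base := by
    rw [Scheme.Opens.range_ι]
    rintro _ ⟨x, rfl⟩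
    have h : (X.left.homOfLE hle).base x ∈ φ.left ⁻¹ᵁ Yt := by
      rw [hYt]
      show (X.left.homOfLE hle ≫ C.tot.ι).base x ∈ Us
      rw [X.left.homOfLE_ι]
      exact x.2
    exact h
  let φs : opS Us ⟶ opS Yt := Over.homMk (IsOpenImmersion.lift Yt.ι (X.left.homOfLE hle ≫ φ.left) hrange) (by
    show _ ≫ Yt.ι ≫ Y.hom = Us.ι ≫ X.hom
    rw [IsOpenImmersion.lift_fac_assoc, Category.assoc, Over.w φ]
    show X.left.homOfLE hle ≫ C.tot.ι ≫ X.hom = _
    rw [X.left.homOfLE_ι_assoc])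
  have hfac : φs.left ≫ Yt.ι = X.left.homOfLE hle ≫ φ.left := IsOpenImmersion.lift_fac _ _ _
  refine ⟨Yt, φs, hfac, hYt, ?_⟩
  have hpb : IsPullback (leS hle) φs φ (iS Yt) :=
    IsPullback.of_map (Over.forget _) (Over.OverMorphism.ext hfac.symm)
      (IsOpenImmersion.isPullback φs.left (X.left.homOfLE hle) Yt.ι φ.left hfac.symm (by
        rw [Scheme.Opens.opensRange_ι, hYt]
        refine Opens.ext (Set.ext fun x => ⟨fun hx => ⟨⟨x.1, hx⟩, C.tot.ι.isOpenEmbedding.injective ?_⟩, ?_⟩)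
        · show (X.left.homOfLE hle ≫ C.tot.ι).base _ = _
          rw [X.left.homOfLE_ι]
          rfl
        · rintro ⟨y, rfl⟩
          show (X.left.homOfLE hle ≫ C.tot.ι).base y ∈ Us
          rw [X.left.homOfLE_ι]
          exact y.2)).flip
  have hpb' : IsPullback (leS hle ≫ 𝟙 _) φs C.φ (iS Yt ≫ χ) :=
    hpb.paste_horiz (IsPullback.of_horiz_isIso ⟨by rw [Category.id_comp]; exact hχ.symm⟩)
  have haSU : aS.act ≫ (leS hle ≫ 𝟙 _) = (G ◁ (leS hle ≫ 𝟙 _)) ≫ aU.act := by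
    haveI := mono_iS C.tot
    rw [Category.comp_id, ← cancel_mono (iS C.tot), Category.assoc, Category.assoc, leS_iS, haS, haU, ← Category.assoc,
      ← MonoidalCategory.whiskerLeft_comp, leS_iS]
  have hφs : GIT.IsInvariant aS φs := by
    haveI := mono_iS Yt
    show aS.act ≫ φs = snd G _ ≫ φs
    rw [← cancel_mono (iS Yt), Category.assoc, Category.assoc, ← hpb.w, ← Category.assoc]
    rw [Category.comp_id] at haSU
    rw [haSU, Category.assoc, hφ.1, ← Category.assoc, whiskerLeft_snd, Category.assoc]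
  refine isUnivGeomQuot_of_cover hφs (fun i : S => Yt.ι ⁻¹ᵁ (χ.left ⁻¹ᵁ C.Yi i.1)) (fun y => ?_) fun i aV haV => ?_
  · obtain ⟨i, hi⟩ := Opens.mem_iSup.1 (show χ.left.base y.1 ∈ ⨆ i : S, C.Yi i.1 from y.2)
    exact ⟨i, hi⟩
  · obtain ⟨prW, gW, hsq, h1, -⟩ := exists_isPullback_small hpb'
      (U := C.Yi i.1) (W := Yt.ι ⁻¹ᵁ (χ.left ⁻¹ᵁ C.Yi i.1)) le_rfl
    have hiC := C.φ_invariant aU haU
    obtain ⟨aZ, haZ, -⟩ := GITQuot.exists_action hiC (isPullback_resS C.φ (C.Yi i.1))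
    haveI : IsAffine (opS (C.φ.left ⁻¹ᵁ C.Yi i.1)).left := by
      show IsAffine (C.φ.left ⁻¹ᵁ C.Yi i.1).toScheme
      rw [Charts.preimage_Yi]; exact C.isAffineOpen_piece i.1
    haveI : IsAffine (opS (C.Yi i.1)).left := C.isAffineOpen_Yi i.1
    let j : opS (C.φ.left ⁻¹ᵁ C.Yi i.1) ⟶ X := iS _ ≫ iS C.tot
    haveI : IsOpenImmersion j.left := by
      show IsOpenImmersion ((C.φ.left ⁻¹ᵁ C.Yi i.1).ι ≫ C.tot.ι)
      infer_instance
    have hjr : Set.range j.left.base = (C.U i.1 : Set X.left) := by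
      ext x
      constructor
      · rintro ⟨z, rfl⟩
        exact (C.preimage_Yi i.1).le z.2
      · intro hx
        exact ⟨⟨⟨x, (le_iSup C.U i.1 : C.U i.1 ≤ C.tot) hx⟩, (C.preimage_Yi i.1).ge hx⟩, rfl⟩
    have hj : aZ.act ≫ j = (G ◁ j) ≫ a.act := by
      rw [← Category.assoc, haZ, Category.assoc, haU, ← Category.assoc, ← MonoidalCategory.whiskerLeft_comp]
    exact isUnivGeomQuot_baseChange
      (GITAff.isUnivGeomQuot hβ (C.fnQuot_Yi hgen aU haU i.1 aZ haZ)
        (isClosedAction_of_closedOrbitsOn (hS i.1 i.2) j hjr aZ hj))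
      hsq aV (action_small haSU haV haZ h1) (invariant_resS hφs aV haV)

end Groth.Agent.GITSS
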