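import Groth.Agent.GITSS.Image
import Groth.Agent.AmpleX.Proj
import Groth.Agent.AmpleX.RelAffine
import Groth.Agent.AmpleVan.Components

/-!
# The quotient carries an ample module
-/

set_option autoImplicit false
set_option backward.isDefEq.respectTransparency false
set_option backward.isDefEq.respectTransparency.types false
set_option linter.style.haveILetI false

universe u

open CategoryTheory CategoryTheory.Limits MonoidalCategory CartesianMonoidalCategory AlgebraicGeometry TopologicalSpace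

noncomputable section

namespace Groth.Agent.GITSS

variable {k : Type u} [Field k] {G X : Over (Spec (CommRingCat.of k))} [GrpObj G] {a : AlgGrp.Action G X}
  {B : GLinSh.LinBun G a}

namespace Charts

variable (C : Charts B)

theorem exists_ample [Finite C.κ] : ∃ M : C.Y.left.Modules, CohB1.IsAmple M := by
  classical
  let 𝒜 := CohB1.polyGrading C.N k
  have hcov' : ⨆ j : Fin (C.N + 1), Proj.basicOpen 𝒜 (MvPolynomial.X j) = ⊤ :=
    Proj.iSup_basicOpen_eq_top _ _ (SegreX.irrelevant_le_span C.N k)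
  let T := Finset.image (fun j : Fin (C.N + 1) => (MvPolynomial.X j : MvPolynomial (Fin (C.N + 1)) k)) Finset.univ
  have hT : CohB1.IsAmple (Twist.twist 𝒜 1) := by
    refine AmpleX.isAmple_twist_one 𝒜 T (fun f hf => ?_) (top_le_iff.1 fun y _ => ?_)
    · obtain ⟨j, -, rfl⟩ := Finset.mem_image.1 hf
      exact ProjPt.X_mem j
    · obtain ⟨j, hj⟩ := Opens.mem_iSup.1 (hcov'.ge (trivial : y ∈ (⊤ : (Proj 𝒜).Opens)))
      exact Opens.mem_iSup.2 ⟨⟨_, Finset.mem_image.2 ⟨j, Finset.mem_univ _, rfl⟩⟩, hj⟩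
  haveI : CompactSpace C.Wt.toScheme := by
    refine isCompact_iff_compactSpace.1 ?_
    rw [show (C.Wt : Set (pr k C.N).left) = ⋃ i, (C.D (C.idx i) : Set (pr k C.N).left) from Opens.coe_iSup _]
    exact isCompact_iUnion fun i => (Proj.isAffineOpen_basicOpen 𝒜 _ (ProjPt.X_mem (C.idx i)) one_pos).isCompact
  have hW : CohB1.IsAmple ((Scheme.Modules.pullback C.Wt.ι).obj (Twist.twist 𝒜 1)) := by
    refine AmpleX.isAmple_pullback_of_isOpenImmersion C.Wt.ι hT.1 fun z => ?_
    obtain ⟨i, hi⟩ := Opens.mem_iSup.1 (show z.1 ∈ ⨆ i, C.D (C.idx i) from z.2)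
    refine ⟨1, one_pos, InvX.powHom (InvX.ofSect (ProjUPX.sec 𝒜 (ProjPt.X_mem (C.idx i)))) 1, ?_⟩
    have hg : CohB1.genLocus _ (InvX.powHom (InvX.ofSect (ProjUPX.sec 𝒜 (ProjPt.X_mem (C.idx i)))) 1) =
        C.D (C.idx i) := by
      rw [InvX.genLocus_powHom hT.1 _ 0,
        AmpleX.genLocus_sec 𝒜 (fun j : Fin (C.N + 1) => MvPolynomial.X j) (fun j => ProjPt.X_mem j) hcov'
          (ProjPt.X_mem (C.idx i))]
    rw [hg]
    refine ⟨hi, ?_, Proj.isAffineOpen_basicOpen 𝒜 _ (ProjPt.X_mem (C.idx i)) one_pos⟩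
    rw [Scheme.Opens.opensRange_ι]
    exact le_iSup (fun i => C.D (C.idx i)) i
  haveI : CompactSpace C.ψW.image := QuasiCompact.compactSpace_of_compactSpace C.ψW.imageι
  exact ⟨_, AmpleVan.FiniteSurj.isAmple_pullback_of_isAffineHom C.ψW.imageι hW⟩

end Charts

end Groth.Agent.GITSS
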