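import Groth.Agent.GITSS.Extend
import Groth.Agent.ProjPt.Poly
import Groth.Agent.ProjPt.Sections

/-!
# The morphism to projective space given by invariant sections
-/

set_option autoImplicit false
set_option backward.isDefEq.respectTransparency false
set_option backward.isDefEq.respectTransparency.types false
set_option linter.style.haveILetI false

universe u

open CategoryTheory CategoryTheory.Limits MonoidalCategory CartesianMonoidalCategory MonObj AlgebraicGeometry Opposite TopologicalSpace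

noncomputable section

namespace Groth.Agent.GITSS

open HMProj

variable {k : Type u} [Field k] {G X : Over (Spec (CommRingCat.of k))} [GrpObj G] {a : AlgGrp.Action G X}

/-- Invariant sections of one weight, some of them with affine nonvanishing locus. -/
structure Charts (B : GLinSh.LinBun G a) where
  /-- the number of sections less one -/
  N : ℕ
  /-- the weight -/
  n : ℕ
  hn : 0 < n
  /-- the sections -/
  g : Fin (N + 1) → Γ(B.V.left, ⊤)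
  hg : ∀ l, B.IsInvSection n (g l)
  /-- the affine charts -/
  κ : Type u
  /-- their sections -/
  idx : κ → Fin (N + 1)
  /-- their opens -/
  U : κ → X.left.Opens
  hU : ∀ i, (U i : Set X.left) = GLinSh.nonvanishing B.π (g (idx i))
  hUa : ∀ i, IsAffineOpen (U i)

/-- Projective space over the field. -/
abbrev pr (k : Type u) [Field k] (N : ℕ) : Over (Spec (CommRingCat.of k)) :=
  Over.mk (Proj.toSpecZero (CohB1.polyGrading N k) ≫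
    Spec.map (CommRingCat.ofHom (algebraMap k (CohB1.polyGrading N k 0))))

namespace Charts

variable {B : GLinSh.LinBun G a} (C : Charts B)

theorem exists_r (i : C.κ) (l : Fin (C.N + 1)) :
    ∃ r, IsRatio B.π (C.U i) (C.g (C.idx i)) (C.g l) r :=
  haveI := B.atlas.affine
  exists_ratio B.atlas C.hn (C.hg _).1 (C.hg l).1 (C.hU i).le

/-- The ratio of a section by the section of a chart. -/
def r (i : C.κ) (l : Fin (C.N + 1)) : Γ(X.left, C.U i) := (C.exists_r i l).choose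

theorem r_spec (i : C.κ) (l : Fin (C.N + 1)) : IsRatio B.π (C.U i) (C.g (C.idx i)) (C.g l) (C.r i l) :=
  (C.exists_r i l).choose_spec

theorem r_self (i : C.κ) : C.r i (C.idx i) = 1 := by
  haveI := B.atlas.affine
  refine IsRatio.unique B.atlas C.hn (C.hg _).1 (C.hU i).le (C.r_spec i _) ?_
  show GLinSh.resTop B.π _ _ = _
  rw [map_one, _root_.one_mul]

theorem r_mul (i j : C.κ) (l : Fin (C.N + 1)) :
    rX (inf_le_left : C.U i ⊓ C.U j ≤ C.U i) (C.r i l) =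
      rX (inf_le_left : C.U i ⊓ C.U j ≤ C.U i) (C.r i (C.idx j)) *
        rX (inf_le_right : C.U i ⊓ C.U j ≤ C.U j) (C.r j l) := by
  haveI := B.atlas.affine
  refine IsRatio.unique B.atlas C.hn (C.hg _).1 (f := C.g (C.idx i)) (D := C.U i ⊓ C.U j)
    (fun x hx => (C.hU i).le hx.1) ((C.r_spec i l).res inf_le_left) ?_
  have e1 := (C.r_spec i (C.idx j)).res (inf_le_left : C.U i ⊓ C.U j ≤ C.U i)
  have e2 := (C.r_spec j l).res (inf_le_right : C.U i ⊓ C.U j ≤ C.U j)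
  unfold IsRatio at e1 e2 ⊢
  rw [e2, e1, ← _root_.mul_assoc, ← map_mul, _root_.mul_comm (rX inf_le_right _)]

/-- The union of the charts. -/
def tot : X.left.Opens := ⨆ i, C.U i

/-- Coordinates pulled back along a morphism into a chart. -/
def coord {T : Scheme.{u}} (p : T ⟶ X.left) (i : C.κ) (h : ⊤ ≤ p ⁻¹ᵁ C.U i) :
    MvPolynomial (Fin (C.N + 1)) k →+* Γ(T, ⊤) :=
  MvPolynomial.eval₂Hom ((p.appLE (C.U i) ⊤ h).hom.comp (cX (C.U i))) fun l => p.appLE (C.U i) ⊤ h (C.r i l)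

theorem coord_unit {T : Scheme.{u}} (p : T ⟶ X.left) (i : C.κ) (h : ⊤ ≤ p ⁻¹ᵁ C.U i) :
    C.coord p i h (MvPolynomial.X (C.idx i)) = 1 := by
  rw [coord, MvPolynomial.eval₂Hom_X', r_self]; exact map_one (p.appLE (C.U i) ⊤ h).hom

theorem isUnit_coord {T : Scheme.{u}} (p : T ⟶ X.left) (i : C.κ) (h : ⊤ ≤ p ⁻¹ᵁ C.U i) :
    IsUnit (C.coord p i h (MvPolynomial.X (C.idx i))) := by
  rw [coord_unit]; exact isUnit_one

/-- The point of projective space with these coordinates. -/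
def ptC {T : Scheme.{u}} (p : T ⟶ X.left) (i : C.κ) (h : ⊤ ≤ p ⁻¹ᵁ C.U i) : T ⟶ (pr k C.N).left :=
  ProjPt.pt (CohB1.polyGrading C.N k) (C.coord p i h) (ProjPt.X_mem (C.idx i)) one_pos (C.isUnit_coord p i h)

theorem comp_coord {T T' : Scheme.{u}} (g : T' ⟶ T) (p : T ⟶ X.left) (i : C.κ) (h : ⊤ ≤ p ⁻¹ᵁ C.U i)
    (h' : ⊤ ≤ (g ≫ p) ⁻¹ᵁ C.U i) : g.appTop.hom.comp (C.coord p i h) = C.coord (g ≫ p) i h' := by
  have e : ∀ z, g.appTop (p.appLE (C.U i) ⊤ h z) = (g ≫ p).appLE (C.U i) ⊤ h' z := fun z => by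
    have h1 := Scheme.Hom.appLE_comp_appLE g p (C.U i) ⊤ ⊤ h le_top
    rw [show g.appLE ⊤ ⊤ le_top = g.appTop from (g.app_eq_appLE (U := ⊤)).symm] at h1
    exact ConcreteCategory.congr_hom h1 z
  refine MvPolynomial.ringHom_ext (fun c => ?_) fun l => ?_
  · simp only [coord, RingHom.comp_apply, MvPolynomial.eval₂Hom_C]
    exact e _
  · simp only [coord, RingHom.comp_apply, MvPolynomial.eval₂Hom_X']
    exact e _

theorem comp_ptC {T T' : Scheme.{u}} (g : T' ⟶ T) (p : T ⟶ X.left) (i : C.κ) (h : ⊤ ≤ p ⁻¹ᵁ C.U i)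
    (h' : ⊤ ≤ (g ≫ p) ⁻¹ᵁ C.U i) : g ≫ C.ptC p i h = C.ptC (g ≫ p) i h' := by
  rw [ptC, ptC, ProjPt.comp_pt]
  exact ProjPt.pt_congr _ _ _ (C.comp_coord g p i h h') _ _ _ _

theorem ptC_congr {T : Scheme.{u}} (p p' : T ⟶ X.left) (e : p = p') (i : C.κ) (h : ⊤ ≤ p ⁻¹ᵁ C.U i)
    (h' : ⊤ ≤ p' ⁻¹ᵁ C.U i) : C.ptC p i h = C.ptC p' i h' := by
  subst e; rfl

theorem ptC_indep {T : Scheme.{u}} (p : T ⟶ X.left) (i j : C.κ) (h : ⊤ ≤ p ⁻¹ᵁ C.U i) (h' : ⊤ ≤ p ⁻¹ᵁ C.U j) :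
    C.ptC p i h = C.ptC p j h' := by
  have hW : ⊤ ≤ p ⁻¹ᵁ (C.U i ⊓ C.U j) := fun x hx => ⟨h hx, h' hx⟩
  have e1 : ∀ z, p.appLE (C.U i) ⊤ h z = p.appLE (C.U i ⊓ C.U j) ⊤ hW (rX inf_le_left z) := fun z =>
    (ConcreteCategory.congr_hom (Scheme.Hom.map_appLE p hW (homOfLE (inf_le_left : C.U i ⊓ C.U j ≤ C.U i)).op) z).symm
  have e2 : ∀ z, p.appLE (C.U j) ⊤ h' z = p.appLE (C.U i ⊓ C.U j) ⊤ hW (rX inf_le_right z) := fun z =>
    (ConcreteCategory.congr_hom (Scheme.Hom.map_appLE p hW (homOfLE (inf_le_right : C.U i ⊓ C.U j ≤ C.U j)).op) z).symm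
  have hc : ((p.appLE (C.U i) ⊤ h).hom.comp (cX (C.U i)) : k →+* _) = (p.appLE (C.U j) ⊤ h').hom.comp (cX (C.U j)) := by
    refine RingHom.ext fun z => ?_
    show (X.hom.appLE ⊤ (C.U i) le_top ≫ p.appLE (C.U i) ⊤ h) _ = (X.hom.appLE ⊤ (C.U j) le_top ≫ p.appLE (C.U j) ⊤ h') _
    rw [Scheme.Hom.appLE_comp_appLE, Scheme.Hom.appLE_comp_appLE]
  symm
  unfold ptC coord
  simp only [hc]
  refine ((ProjPt.pt_scale_eval _ _ _ (p.appLE (C.U i) ⊤ h (C.r i (C.idx j))) (fun l => ?_) (C.idx j) (C.idx i) _ _).symm)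
  rw [e1, e1, e2, ← map_mul, ← r_mul]

/-- The cover of the union of the charts. -/
def cover : C.tot.toScheme.OpenCover :=
  C.tot.toScheme.openCoverOfIsOpenCover (fun i => C.tot.ι ⁻¹ᵁ C.U i)
    (.mk (top_le_iff.mp fun x _ => Opens.mem_iSup.mpr (by
      obtain ⟨i, hi⟩ := Opens.mem_iSup.mp (show x.1 ∈ ⨆ i, C.U i from x.2)
      exact ⟨i, hi⟩)))

theorem le_cover (i : C.κ) : ⊤ ≤ ((C.tot.ι ⁻¹ᵁ C.U i).ι ≫ C.tot.ι) ⁻¹ᵁ C.U i := fun x _ => x.2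

/-- The morphism to projective space. -/
def ψ₀ : C.tot.toScheme ⟶ (pr k C.N).left :=
  C.cover.glueMorphisms (fun i => C.ptC ((C.tot.ι ⁻¹ᵁ C.U i).ι ≫ C.tot.ι) i (C.le_cover i)) fun i j => by
    let p := pullback.fst (C.tot.ι ⁻¹ᵁ C.U i).ι (C.tot.ι ⁻¹ᵁ C.U j).ι ≫ (C.tot.ι ⁻¹ᵁ C.U i).ι ≫ C.tot.ι
    have hj : pullback.snd (C.tot.ι ⁻¹ᵁ C.U i).ι (C.tot.ι ⁻¹ᵁ C.U j).ι ≫ (C.tot.ι ⁻¹ᵁ C.U j).ι ≫ C.tot.ι = p := by
      simp only [p, ← Category.assoc, pullback.condition]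
    have h1 : ⊤ ≤ p ⁻¹ᵁ C.U i := fun x _ => ((pullback.fst (C.tot.ι ⁻¹ᵁ C.U i).ι (C.tot.ι ⁻¹ᵁ C.U j).ι).base x).2
    have h2 : ⊤ ≤ p ⁻¹ᵁ C.U j := by
      rw [← hj]
      exact fun x _ => ((pullback.snd (C.tot.ι ⁻¹ᵁ C.U i).ι (C.tot.ι ⁻¹ᵁ C.U j).ι).base x).2
    exact (C.comp_ptC _ _ i _ h1).trans ((C.ptC_indep p i j h1 h2).trans
      ((C.ptC_congr _ _ hj.symm j h2 (hj.symm ▸ h2)).trans (C.comp_ptC _ _ j _ _).symm))

theorem comp_ψ₀ {T : Scheme.{u}} (p : T ⟶ C.tot.toScheme) (i : C.κ) (h : ⊤ ≤ (p ≫ C.tot.ι) ⁻¹ᵁ C.U i) :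
    p ≫ C.ψ₀ = C.ptC (p ≫ C.tot.ι) i h := by
  have hr : Set.range p.base ⊆ Set.range (C.tot.ι ⁻¹ᵁ C.U i).ι.base := by
    rw [Scheme.Opens.range_ι]
    rintro _ ⟨x, rfl⟩
    exact h (trivial : x ∈ (⊤ : T.Opens))
  let q := IsOpenImmersion.lift (C.tot.ι ⁻¹ᵁ C.U i).ι p hr
  have hq : q ≫ (C.tot.ι ⁻¹ᵁ C.U i).ι = p := IsOpenImmersion.lift_fac _ _ _
  have e : (C.tot.ι ⁻¹ᵁ C.U i).ι ≫ C.ψ₀ = _ := C.cover.ι_glueMorphisms _ _ i
  conv_lhs => rw [← hq, Category.assoc, e]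
  rw [C.comp_ptC _ _ i _ (by rw [← Category.assoc, hq]; exact h)]
  exact C.ptC_congr _ _ (by rw [← Category.assoc, hq]) i _ _

theorem ptC_toBase {T : Scheme.{u}} (p : T ⟶ X.left) (i : C.κ) (h : ⊤ ≤ p ⁻¹ᵁ C.U i) :
    C.ptC p i h ≫ (pr k C.N).hom = p ≫ X.hom := by
  show ProjPt.pt _ _ _ _ _ ≫ Proj.toSpecZero _ ≫ _ = _
  rw [← Category.assoc, ProjPt.pt_toSpecZero, Category.assoc, ← Spec.map_comp]
  refine Eq.trans ?_ (ProjPt.eq_toSpecΓ (p ≫ X.hom)).symm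
  refine congrArg (fun z => T.toSpecΓ ≫ Spec.map z) (CommRingCat.hom_ext (RingHom.ext fun c => ?_))
  show C.coord p i h (MvPolynomial.C c) = (p ≫ X.hom).appTop ((Scheme.ΓSpecIso (CommRingCat.of k)).inv c)
  rw [coord, MvPolynomial.eval₂Hom_C]
  show (X.hom.appLE ⊤ (C.U i) le_top ≫ p.appLE (C.U i) ⊤ h) _ = _
  rw [Scheme.Hom.appLE_comp_appLE, show (p ≫ X.hom).appTop = (p ≫ X.hom).appLE ⊤ ⊤ le_top from (p ≫ X.hom).app_eq_appLE]
  rfl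

theorem ψ₀_toBase : C.ψ₀ ≫ (pr k C.N).hom = C.tot.ι ≫ X.hom :=
  Scheme.Cover.hom_ext C.cover _ _ fun i => by
    show (C.tot.ι ⁻¹ᵁ C.U i).ι ≫ C.ψ₀ ≫ _ = (C.tot.ι ⁻¹ᵁ C.U i).ι ≫ C.tot.ι ≫ X.hom
    rw [← Category.assoc, C.comp_ψ₀ _ i (C.le_cover i), ptC_toBase, Category.assoc]

/-- The morphism over the field. -/
def ψ : opS C.tot ⟶ pr k C.N := Over.homMk C.ψ₀ C.ψ₀_toBase

theorem preimage_D (l : Fin (C.N + 1)) :
    (C.ψ₀ ⁻¹ᵁ Proj.basicOpen (CohB1.polyGrading C.N k) (MvPolynomial.X l) : Set C.tot.toScheme) =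
      C.tot.ι.base ⁻¹' GLinSh.nonvanishing B.π (C.g l) := by
  haveI := B.atlas.affine
  ext x
  obtain ⟨i, hi⟩ := Opens.mem_iSup.mp x.2
  let p := (C.tot.ι ⁻¹ᵁ C.U i).ι
  let x' : (C.tot.ι ⁻¹ᵁ C.U i).toScheme := ⟨x, hi⟩
  have hh : (p ≫ C.ψ₀) ⁻¹ᵁ Proj.basicOpen (CohB1.polyGrading C.N k) (MvPolynomial.X l) =
      (p ≫ C.tot.ι) ⁻¹ᵁ X.left.basicOpen (C.r i l) := by
    rw [C.comp_ψ₀ p i (C.le_cover i), ptC, ProjPt.pt_preimage_basicOpen _ _ _ one_pos _ (ProjPt.X_mem l) one_pos,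
      coord, MvPolynomial.eval₂Hom_X', Scheme.basicOpen_appLE]
    exact inf_eq_right.2 le_top
  have hb := basicOpen_ratio B.atlas C.hn (C.hg _).1 (C.hg l).1 (C.hU i).le (C.r_spec i l)
  have h1 : x' ∈ (p ≫ C.ψ₀) ⁻¹ᵁ Proj.basicOpen (CohB1.polyGrading C.N k) (MvPolynomial.X l) ↔
      x' ∈ (p ≫ C.tot.ι) ⁻¹ᵁ X.left.basicOpen (C.r i l) := by rw [hh]
  refine h1.trans ?_
  show C.tot.ι.base x ∈ (X.left.basicOpen (C.r i l) : Set X.left) ↔ _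
  rw [hb]
  exact ⟨fun h => h.2, fun h => ⟨hi, h⟩⟩

end Charts

end Groth.Agent.GITSS
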