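import Groth.Agent.GITSS.Ample

/-!
# Charts for the semistable locus
-/

set_option autoImplicit false
set_option backward.isDefEq.respectTransparency false
set_option backward.isDefEq.respectTransparency.types false
set_option linter.style.haveILetI false

universe u

open CategoryTheory CategoryTheory.Limits MonoidalCategory CartesianMonoidalCategory MonObj AlgebraicGeometry Opposite TopologicalSpace

noncomputable section

namespace Groth.Agent.GITSS

open HMProj GrpSchLib GrpSchLib.Kunneth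

variable {k : Type u} [Field k] {G X : Over (Spec (CommRingCat.of k))} [GrpObj G] {a : AlgGrp.Action G X}

/-- The action on an invariant open. -/
theorem exists_restrictG {U : X.left.Opens}
    (hU : ∀ q : (G ⊗ X).left, a.act.left.base q ∈ U ↔ (snd G X).left.base q ∈ U) :
    ∃ aU : AlgGrp.Action G (opS U), aU.act ≫ iS U = (G ◁ iS U) ≫ a.act := by
  let m : G ⊗ opS U ⟶ X := (G ◁ iS U) ≫ a.act
  have hr : Set.range m.left.base ⊆ Set.range U.ι.base := by
    rintro _ ⟨q, rfl⟩
    rw [Scheme.Opens.range_ι]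
    show a.act.left.base ((G ◁ iS U).left.base q) ∈ U
    rw [hU, ← Scheme.Hom.comp_apply, ← Over.comp_left, whiskerLeft_snd]
    exact ((snd G (opS U)).left.base q).2
  let act' : G ⊗ opS U ⟶ opS U := Over.homMk (IsOpenImmersion.lift U.ι m.left hr) (by
    show IsOpenImmersion.lift U.ι m.left hr ≫ U.ι ≫ X.hom = _
    rw [IsOpenImmersion.lift_fac_assoc, Over.w m])
  have hact : act' ≫ iS U = m := Over.OverMorphism.ext (IsOpenImmersion.lift_fac U.ι m.left hr)
  haveI := mono_iS U
  refine ⟨⟨act', ?_, ?_⟩, hact⟩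
  · rw [← cancel_mono (iS U), Category.assoc, hact, ← whisker_exchange_assoc, a.one_act]
    simp
  · rw [← cancel_mono (iS U), Category.assoc, hact, Category.assoc, Category.assoc, hact,
      ← whisker_exchange_assoc, a.mul_act, associator_naturality_right_assoc,
      ← MonoidalCategory.whiskerLeft_comp_assoc, ← MonoidalCategory.whiskerLeft_comp_assoc, hact]

theorem appLE_topIso (W : X.left.Opens) (r : Γ(W.toScheme, ⊤)) :
    W.ι.appLE W ⊤ W.ι_preimage_self.ge (W.topIso.hom r) = r := by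
  have h : W.topIso.hom ≫ W.ι.appLE W ⊤ W.ι_preimage_self.ge = 𝟙 _ := by
    rw [Scheme.Opens.topIso_hom, Scheme.Opens.ι_appLE, ← Functor.map_comp]
    exact (congrArg X.left.presheaf.map (Subsingleton.elim _ (𝟙 _))).trans (X.left.presheaf.map_id _)
  exact ConcreteCategory.congr_hom h r

theorem exists_gens [CharZero k] (hG : Red.IsReductive G) [LocallyOfFiniteType X.hom] {W : X.left.Opens}
    (hW : IsAffineOpen W) (aW : AlgGrp.Action G (opS W)) :
    ∃ t : Finset (GITAff.invFn aW), Algebra.adjoin k (t : Set (GITAff.invFn aW)) = ⊤ := by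
  haveI := GITAff.isAffine_of_isReductive hG
  haveI : IsAffine (opS W).left := hW
  haveI : LocallyOfFiniteType (opS W).hom := inferInstanceAs (LocallyOfFiniteType (W.ι ≫ X.hom))
  haveI : Algebra.FiniteType k (GITAff.invFn aW) :=
    RingHom.finiteType_algebraMap.mp ((HasRingHomProperty.Spec_iff (P := @LocallyOfFiniteType)).mp
      (GITAff.locallyOfFiniteType_quot aW hG))
  exact Algebra.FiniteType.out

theorem isInvSection_zero (B : GLinSh.LinBun G a) (n : ℕ) : B.IsInvSection n 0 :=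
  ⟨hasWeight_zero B.atlas n, by show B.lift.act.left.appTop 0 = (snd G B.V).left.appTop 0; rw [map_zero, map_zero]⟩

theorem isInvSection_mul (B : GLinSh.LinBun G a) {n m : ℕ} {f g : Γ(B.V.left, ⊤)} (hf : B.IsInvSection n f)
    (hg : B.IsInvSection m g) : B.IsInvSection (n + m) (f * g) :=
  ⟨hasWeight_mul B.atlas hf.1 hg.1, by
    show B.lift.act.left.appTop _ = (snd G B.V).left.appTop _
    rw [map_mul, map_mul, show B.lift.act.left.appTop f = _ from hf.2, show B.lift.act.left.appTop g = _ from hg.2]⟩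

theorem isInvSection_pow (B : GLinSh.LinBun G a) {n : ℕ} {f : Γ(B.V.left, ⊤)} (hf : B.IsInvSection n f) (e : ℕ) :
    B.IsInvSection (e * n) (f ^ e) :=
  ⟨hasWeight_pow B.atlas hf.1 e, by
    show B.lift.act.left.appTop _ = (snd G B.V).left.appTop _
    rw [map_pow, map_pow, show B.lift.act.left.appTop f = _ from hf.2]⟩

/-- Invariant functions are polynomials in the ratios when generators are ratios. -/
theorem exists_poly {B : GLinSh.LinBun G a} (C : Charts B) (i : C.κ) (aW : AlgGrp.Action G (opS (C.U i)))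
    (t : Finset (GITAff.invFn aW)) (ht : Algebra.adjoin k (t : Set (GITAff.invFn aW)) = ⊤)
    (hb : ∀ b ∈ t, ∃ l, IsRatio B.π (C.U i) (C.g (C.idx i)) (C.g l) ((C.U i).topIso.hom (b : Fn (opS (C.U i)))))
    (r : Fn (opS (C.U i))) (hr : r ∈ GITAff.invFn aW) :
    ∃ p : MvPolynomial (Fin (C.N + 1)) k, C.coord (C.U i).ι i (C.U i).ι_preimage_self.ge p = r := by
  haveI := B.atlas.affine
  let co := C.coord (C.U i).ι i (C.U i).ι_preimage_self.ge
  let φA : MvPolynomial (Fin (C.N + 1)) k →ₐ[k] Fn (opS (C.U i)) :=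
    { co with
      commutes' := fun c => by
        show C.coord _ _ _ (MvPolynomial.C c) = (opS (C.U i)).hom.appTop ((Scheme.ΓSpecIso (CommRingCat.of k)).inv c)
        rw [Charts.coord, MvPolynomial.eval₂Hom_C]
        show (X.hom.appLE ⊤ (C.U i) le_top ≫ (C.U i).ι.appLE (C.U i) ⊤ _) _ = _
        rw [Scheme.Hom.appLE_comp_appLE, show (opS (C.U i)).hom.appTop = ((C.U i).ι ≫ X.hom).appLE ⊤ ⊤ le_top
          from ((C.U i).ι ≫ X.hom).app_eq_appLE]
        rfl }
  have hle : (⊤ : Subalgebra k (GITAff.invFn aW)) ≤ φA.range.comap (GITAff.invFn aW).val := by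
    rw [← ht, Algebra.adjoin_le_iff]
    intro b hbt
    show (b : Fn (opS (C.U i))) ∈ φA.range
    obtain ⟨l, hl⟩ := hb b hbt
    refine ⟨MvPolynomial.X l, ?_⟩
    show C.coord _ i _ (MvPolynomial.X _) = _
    rw [Charts.coord, MvPolynomial.eval₂Hom_X',
      IsRatio.unique B.atlas C.hn (C.hg _).1 (C.hU i).le (C.r_spec i l) hl]
    exact appLE_topIso _ _
  exact hle (Algebra.mem_top : (⟨r, hr⟩ : GITAff.invFn aW) ∈ ⊤)

theorem isRatio_pad {S : Scheme.{u}} {X V : Over S} {π : V ⟶ X} {D : X.left.Opens} {F s : Γ(V.left, ⊤)}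
    {r : Γ(X.left, D)} {e E : ℕ} (h : IsRatio π D (F ^ e) s r) (he : e ≤ E) :
    IsRatio π D (F ^ E) (s * F ^ (E - e)) r := by
  obtain ⟨d, rfl⟩ := Nat.exists_eq_add_of_le he
  unfold IsRatio at h ⊢
  rw [Nat.add_sub_cancel_left, pow_add, resTop_mul, resTop_mul, h, _root_.mul_assoc]

/-- Charts from finitely many invariant sections with affine nonvanishing loci. -/
theorem exists_charts_of_family [CharZero k] (hG : Red.IsReductive G) [LocallyOfFiniteType X.hom] [QuasiCompact X.hom]
    (B : GLinSh.LinBun G a) {s : Type u} [Fintype s] (n : s → ℕ) (f : s → Γ(B.V.left, ⊤)) (W : s → X.left.Opens)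
    (hn : ∀ x, 1 ≤ n x) (hf : ∀ x, B.IsInvSection (n x) (f x))
    (hW : ∀ x, (W x : Set X.left) = GLinSh.nonvanishing B.π (f x)) (hWa : ∀ x, IsAffineOpen (W x)) :
    ∃ C : Charts B, C.tot = ⨆ x, W x ∧ C.Generated ∧ Finite C.κ ∧ ∀ x, ∃ i, C.U i = W x := by
  classical
  haveI := B.atlas.affine
  haveI : IsAffineHom G.hom := hG.1
  let n₀ := ∏ x : s, n x
  have hn₀ : 0 < n₀ := Finset.prod_pos fun x _ => hn x
  have hdvd : ∀ x : s, n x ∣ n₀ := fun x => Finset.dvd_prod_of_mem _ (Finset.mem_univ x)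
  have hpos : ∀ x : s, 0 < n₀ / n x := fun x => Nat.div_pos (Nat.le_of_dvd hn₀ (hdvd x)) (hn x)
  let F : s → Γ(B.V.left, ⊤) := fun x => f x ^ (n₀ / n x)
  have hF : ∀ x, B.IsInvSection n₀ (F x) := fun x => by
    have := isInvSection_pow B (hf x) (n₀ / n x)
    rwa [Nat.div_mul_cancel (hdvd x)] at this
  have hFW : ∀ x : s, (W x : Set X.left) = GLinSh.nonvanishing B.π (F x) := fun x => by
    rw [nonvanishing_pow B.atlas (hn x) (hf x).1 (hpos x), hW]
  choose aW haW using fun x : s => exists_restrictG (a := a) (U := W x) fun q => by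
    show a.act.left.base q ∈ (W x : Set X.left) ↔ (snd G X).left.base q ∈ (W x : Set X.left)
    rw [hFW x]
    exact mem_iff_of_invariant B (hF x).2 q
  choose t ht using fun x : s => exists_gens hG (hWa x) (aW x)
  choose e sec hsec hrat using fun (p : Σ x : s, t x) =>
    exists_invSection B hn₀ (hF p.1) (hFW p.1) (aW p.1) (haW p.1) p.2.1.1 p.2.1.2
  let E := 1 + ∑ p, e p
  have hE : ∀ p, e p ≤ E := fun p =>
    (Finset.single_le_sum (fun _ _ => Nat.zero_le _) (Finset.mem_univ p)).trans (Nat.le_add_left _ _)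
  let J := (s ⊕ Σ x : s, t x) ⊕ Unit
  let ω : J ≃ Fin (Fintype.card J - 1 + 1) := Fintype.equivFinOfCardEq
    (Nat.sub_add_cancel (Fintype.card_pos_iff.2 ⟨Sum.inr ()⟩)).symm
  let g : J → Γ(B.V.left, ⊤) := Sum.elim (Sum.elim (fun x => F x ^ E) fun p => sec p * F p.1 ^ (E - e p)) fun _ => 0
  have hg : ∀ l, B.IsInvSection (E * n₀) (g l) := by
    rintro ((x | p) | _)
    · exact isInvSection_pow B (hF x) E
    · have := isInvSection_mul B (hsec p) (isInvSection_pow B (hF p.1) (E - e p))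
      rwa [← add_mul, Nat.add_sub_cancel' (hE p)] at this
    · exact isInvSection_zero B _
  let C : Charts B :=
    { N := Fintype.card J - 1
      n := E * n₀
      hn := Nat.mul_pos (by omega) hn₀
      g := fun l => g (ω.symm l)
      hg := fun l => hg _
      κ := s
      idx := fun x => ω (Sum.inl (Sum.inl x))
      U := fun x => W x
      hU := fun x => by
        rw [Equiv.symm_apply_apply]
        show _ = GLinSh.nonvanishing B.π (F x ^ E)
        rw [nonvanishing_pow B.atlas hn₀ (hF x).1 (by omega : 0 < E), hFW]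
      hUa := fun x => hWa x }
  refine ⟨C, rfl, fun x r hr => ?_, inferInstanceAs (Finite s), fun x => ⟨x, rfl⟩⟩
  · refine exists_poly C x (aW x) (t x) (ht x) (fun b hb => ⟨ω (Sum.inl (Sum.inr ⟨x, b, hb⟩)), ?_⟩) r
      (hr (aW x).act (haW x))
    show GLinSh.resTop B.π (W x) (g (ω.symm (ω (Sum.inl (Sum.inr ⟨x, b, hb⟩))))) =
      _ * GLinSh.resTop B.π (W x) (g (ω.symm (ω (Sum.inl (Sum.inl x)))))
    rw [Equiv.symm_apply_apply, Equiv.symm_apply_apply]
    show GLinSh.resTop B.π (W x) (sec ⟨x, b, hb⟩ * F x ^ (E - e ⟨x, b, hb⟩)) =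
      _ * GLinSh.resTop B.π (W x) (F x ^ E)
    exact isRatio_pad (hrat ⟨x, b, hb⟩) (hE ⟨x, b, hb⟩)

/-- Charts covering the semistable locus with generated invariants. -/
theorem exists_charts [CharZero k] (hG : Red.IsReductive G) [LocallyOfFiniteType X.hom] [QuasiCompact X.hom]
    (B : GLinSh.LinBun G a) {U : X.left.Opens} (hU : (U : Set X.left) = B.ssLocus) :
    ∃ C : Charts B, C.tot = U ∧ C.Generated ∧ Finite C.κ := by
  classical
  haveI : CompactSpace X.left := QuasiCompact.compactSpace_of_compactSpace X.hom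
  haveI : IsLocallyNoetherian X.left := LocallyOfFiniteType.isLocallyNoetherian X.hom
  haveI : IsNoetherian X.left := {}
  have hw : ∀ x : U, B.IsSemistablePt x.1 := fun x => by
    have := x.2
    rw [← SetLike.mem_coe, hU] at this
    exact this
  choose n f hn hf hxf W hW hWa using hw
  obtain ⟨s, hs⟩ := (NoetherianSpace.isCompact (U : Set X.left)).elim_finite_subcover
    (fun x : U => ((W x : X.left.Opens) : Set X.left)) (fun x => (W x).2)
    (fun x hx => Set.mem_iUnion.2 ⟨⟨x, hx⟩, by rw [hW]; exact hxf ⟨x, hx⟩⟩)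
  obtain ⟨C, hC, hgen, hfin, -⟩ := exists_charts_of_family hG B (s := s) (fun x => n x.1) (fun x => f x.1)
    (fun x => W x.1) (fun x => hn x.1) (fun x => hf x.1) (fun x => hW x.1) (fun x => hWa x.1)
  refine ⟨C, hC.trans (le_antisymm (iSup_le fun x => fun y hy => ?_) fun y hy => ?_), hgen, hfin⟩
  · show y ∈ (U : Set X.left)
    rw [hU]
    exact ⟨n x.1, f x.1, hn x.1, hf x.1, (hW x.1).le hy, W x.1, hW x.1, hWa x.1⟩
  · obtain ⟨x, hx, hyx⟩ := Set.mem_iUnion₂.1 (hs hy)
    exact Opens.mem_iSup.2 ⟨(⟨x, hx⟩ : s), hyx⟩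

/-- The uniform categorical quotient of the semistable locus. -/
theorem exists_quot [CharZero k] (hG : Red.IsReductive G) [LocallyOfFiniteType X.hom] [QuasiCompact X.hom]
    (B : GLinSh.LinBun G a) {U : X.left.Opens} (hU : (U : Set X.left) = B.ssLocus)
    (aU : AlgGrp.Action G (opS U)) (haU : aU.act ≫ iS U = (G ◁ iS U) ≫ a.act) :
    ∃ (Y : Over (Spec (CommRingCat.of k))) (φ : opS U ⟶ Y),
      GIT.IsUnivCatQuot aU φ ∧ IsAffineHom φ.left ∧ GIT.IsUnivSubmersive φ.left ∧
      IsSeparated Y.hom ∧ LocallyOfFiniteType Y.hom ∧ ∃ M : Y.left.Modules, CohB1.IsAmple M := by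
  haveI := GITAff.isAffine_of_isReductive hG
  haveI := hG.2.1
  obtain ⟨β, hβ⟩ := GITAff.exists_isInv hG
  obtain ⟨C, rfl, hgen, hfin⟩ := exists_charts hG B hU
  haveI := hfin
  obtain ⟨h1, h2⟩ := C.isUnivCatQuot_φ hβ hgen aU haU
  exact ⟨C.Y, C.φ, h1, inferInstance, h2, C.isSeparated_Y, C.locallyOfFiniteType_Y, C.exists_ample⟩

end Groth.Agent.GITSS
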