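import Groth.Agent.GITQuot.BaseChange

/-!
# Quotient properties are local on the quotient
-/

set_option autoImplicit false
set_option backward.isDefEq.respectTransparency false
set_option backward.isDefEq.respectTransparency.types false
set_option linter.style.haveILetI false

universe u

open CategoryTheory CategoryTheory.Limits MonoidalCategory CartesianMonoidalCategory MonObj AlgebraicGeometry Topology

noncomputable section

namespace Groth.Agent.GITSS

variable {S : Scheme.{u}} {G X Y : Over S} [GrpObj G] {a : AlgGrp.Action G X} {φ : X ⟶ Y}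

/-- An open as an object over the base. -/
abbrev opS (U : X.left.Opens) : Over S := Over.mk (U.ι ≫ X.hom)

/-- Its inclusion. -/
abbrev iS (U : X.left.Opens) : opS U ⟶ X := Over.homMk U.ι rfl

theorem mono_iS (U : X.left.Opens) : Mono (iS U) := by
  haveI : Mono ((Over.forget _).map (iS U)) := inferInstanceAs (Mono U.ι)
  exact (Over.forget _).mono_of_mono_map ‹_›

/-- The inclusion of a smaller open. -/
abbrev leS {U W : X.left.Opens} (h : W ≤ U) : opS W ⟶ opS U :=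
  Over.homMk (X.left.homOfLE h) (by
    show X.left.homOfLE h ≫ U.ι ≫ X.hom = W.ι ≫ X.hom
    rw [X.left.homOfLE_ι_assoc])

theorem leS_iS {U W : X.left.Opens} (h : W ≤ U) : leS h ≫ iS U = iS W :=
  Over.OverMorphism.ext (X.left.homOfLE_ι h)

/-- The restriction of a morphism over an open of its target. -/
abbrev resS (φ : X ⟶ Y) (U : Y.left.Opens) : opS (φ.left ⁻¹ᵁ U) ⟶ opS U :=
  Over.homMk (φ.left ∣_ U) (by
    show φ.left ∣_ U ≫ U.ι ≫ Y.hom = (φ.left ⁻¹ᵁ U).ι ≫ X.hom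
    rw [morphismRestrict_ι_assoc, Over.w])

theorem isPullback_resS (φ : X ⟶ Y) (U : Y.left.Opens) : IsPullback (iS _) (resS φ U) φ (iS U) :=
  IsPullback.of_map (Over.forget S) (Over.OverMorphism.ext (morphismRestrict_ι φ.left U).symm)
    (isPullback_morphismRestrict φ.left U).flip

theorem resS_leS (φ : X ⟶ Y) {U W : Y.left.Opens} (h : W ≤ U) :
    leS (φ.left.preimage_mono h) ≫ resS φ U = resS φ W ≫ leS h := by
  haveI := mono_iS U
  rw [← cancel_mono (iS U), Category.assoc, Category.assoc, leS_iS, ← (isPullback_resS φ U).w,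
    ← (isPullback_resS φ W).w, ← Category.assoc, leS_iS]

theorem invariant_resS (hi : GIT.IsInvariant a φ) {U : Y.left.Opens} (a' : AlgGrp.Action G (opS (φ.left ⁻¹ᵁ U)))
    (heq : a'.act ≫ iS _ = (G ◁ iS _) ≫ a.act) : GIT.IsInvariant a' (resS φ U) := by
  haveI := mono_iS U
  show a'.act ≫ _ = snd G _ ≫ _
  rw [← cancel_mono (iS U), Category.assoc, Category.assoc, ← (isPullback_resS φ U).w, ← Category.assoc, heq,
    Category.assoc, hi, ← Category.assoc, whiskerLeft_snd, Category.assoc]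

/-- Being a categorical quotient is local on the target, given it for all small opens. -/
theorem isCatQuot_of_small (hi : GIT.IsInvariant a φ) {J : Type u} (U : J → Y.left.Opens)
    (hU : ∀ y, ∃ j, y ∈ U j)
    (h : ∀ (j : J) (W : Y.left.Opens), W ≤ U j → ∀ a' : AlgGrp.Action G (opS (φ.left ⁻¹ᵁ W)),
      a'.act ≫ iS _ = (G ◁ iS _) ≫ a.act → GIT.IsCatQuot a' (resS φ W)) :
    GIT.IsCatQuot a φ := by
  refine ⟨hi, fun Z ψ hψ => ?_⟩
  have hq : ∀ (j : J) (W : Y.left.Opens), W ≤ U j → ∃! χ : opS W ⟶ Z, resS φ W ≫ χ = iS _ ≫ ψ := by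
    intro j W hW
    obtain ⟨a', heq, -⟩ := GITQuot.exists_action hi (isPullback_resS φ W)
    refine (h j W hW a' heq).2 Z _ ?_
    show a'.act ≫ _ = snd G _ ≫ _
    rw [← Category.assoc, heq, Category.assoc, hψ, ← Category.assoc, whiskerLeft_snd, Category.assoc]
  choose χ hχ huniq using fun j => hq j (U j) le_rfl
  have hres : ∀ (j : J) (W : Y.left.Opens) (hW : W ≤ U j), resS φ W ≫ leS hW ≫ χ j = iS _ ≫ ψ := by
    intro j W hW
    rw [← Category.assoc, ← resS_leS, Category.assoc, hχ, ← Category.assoc, leS_iS]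
  let 𝒰 := Y.left.openCoverOfIsOpenCover U
    (.mk (top_le_iff.mp fun y _ => TopologicalSpace.Opens.mem_iSup.mpr (hU y)))
  have hglue : ∀ i j, pullback.fst (U i).ι (U j).ι ≫ (χ i).left = pullback.snd (U i).ι (U j).ι ≫ (χ j).left := by
    intro i j
    let p := pullback.fst (U i).ι (U j).ι ≫ (U i).ι
    have hp : p = pullback.snd (U i).ι (U j).ι ≫ (U j).ι := pullback.condition
    have hr : Set.range p.base ⊆ Set.range (U i ⊓ U j).ι.base := by
      rw [Scheme.Opens.range_ι]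
      rintro _ ⟨z, rfl⟩
      refine ⟨((pullback.fst (U i).ι (U j).ι).base z).2, ?_⟩
      rw [hp]
      exact ((pullback.snd (U i).ι (U j).ι).base z).2
    let r := IsOpenImmersion.lift (U i ⊓ U j).ι p hr
    have h1 : pullback.fst (U i).ι (U j).ι = r ≫ Y.left.homOfLE inf_le_left := by
      rw [← cancel_mono (U i).ι, Category.assoc, Y.left.homOfLE_ι, IsOpenImmersion.lift_fac]
    have h2 : pullback.snd (U i).ι (U j).ι = r ≫ Y.left.homOfLE inf_le_right := by
      rw [← cancel_mono (U j).ι, Category.assoc, Y.left.homOfLE_ι, IsOpenImmersion.lift_fac, hp]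
    have e : leS (inf_le_left : U i ⊓ U j ≤ U i) ≫ χ i = leS (inf_le_right : U i ⊓ U j ≤ U j) ≫ χ j :=
      (hq i _ inf_le_left).unique (hres i _ _) (hres j _ _)
    rw [h1, h2, Category.assoc, Category.assoc]
    exact congrArg (r ≫ ·) (congrArg CommaMorphism.left e)
  let χ₀ : Y.left ⟶ Z.left := 𝒰.glueMorphisms (fun j => (χ j).left) hglue
  have hχ₀ : ∀ j, (U j).ι ≫ χ₀ = (χ j).left := fun j => 𝒰.ι_glueMorphisms (fun j => (χ j).left) hglue j
  have hS : χ₀ ≫ Z.hom = Y.hom := Scheme.Cover.hom_ext 𝒰 _ _ fun j => by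
    show (U j).ι ≫ χ₀ ≫ Z.hom = (U j).ι ≫ Y.hom
    rw [← Category.assoc, hχ₀, Over.w]
    rfl
  let χ' : Y ⟶ Z := Over.homMk χ₀ hS
  have hcovX : (⨆ j, φ.left ⁻¹ᵁ U j) = ⊤ := top_le_iff.mp fun x _ =>
    TopologicalSpace.Opens.mem_iSup.mpr (hU _)
  have hφ : φ ≫ χ' = ψ := by
    refine Over.OverMorphism.ext (Scheme.Cover.hom_ext (X.left.openCoverOfIsOpenCover _ (.mk hcovX)) _ _ fun j => ?_)
    show (φ.left ⁻¹ᵁ U j).ι ≫ φ.left ≫ χ₀ = (φ.left ⁻¹ᵁ U j).ι ≫ ψ.left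
    rw [← Category.assoc, ← morphismRestrict_ι, Category.assoc, hχ₀]
    exact congrArg CommaMorphism.left (hχ j)
  refine ⟨χ', hφ, fun χ'' hχ'' => Over.OverMorphism.ext (Scheme.Cover.hom_ext 𝒰 _ _ fun j => ?_)⟩
  show (U j).ι ≫ χ''.left = (U j).ι ≫ χ₀
  rw [hχ₀]
  refine congrArg CommaMorphism.left (huniq j (iS (U j) ≫ χ'') ?_)
  show resS φ (U j) ≫ iS (U j) ≫ χ'' = _
  rw [← Category.assoc, ← (isPullback_resS φ (U j)).w, Category.assoc, hχ'']

/-- The base change of a restriction. -/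
theorem exists_isPullback_small {X' Y' : Over S} {pr : X' ⟶ X} {φ' : X' ⟶ Y'} {g : Y' ⟶ Y}
    (hpb : IsPullback pr φ' φ g) {U : Y.left.Opens} {W : Y'.left.Opens} (hW : W ≤ g.left ⁻¹ᵁ U) :
    ∃ (prW : opS (φ'.left ⁻¹ᵁ W) ⟶ opS (φ.left ⁻¹ᵁ U)) (gW : opS W ⟶ opS U),
      IsPullback prW (resS φ' W) (resS φ U) gW ∧ prW ≫ iS _ = iS _ ≫ pr ∧ gW ≫ iS U = iS W ≫ g := by
  let gW : opS W ⟶ opS U := Over.homMk (g.left.resLE U W hW) (by
    show g.left.resLE U W hW ≫ U.ι ≫ Y.hom = W.ι ≫ Y'.hom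
    rw [Scheme.Hom.resLE_comp_ι_assoc, Over.w])
  have hg : gW ≫ iS U = iS W ≫ g := Over.OverMorphism.ext (Scheme.Hom.resLE_comp_ι g.left hW)
  let prW := (isPullback_resS φ U).lift (iS _ ≫ pr) (resS φ' W ≫ gW) (by
    rw [Category.assoc, Category.assoc, hg, hpb.w, ← Category.assoc, ← Category.assoc, (isPullback_resS φ' W).w])
  have h1 : prW ≫ iS _ = iS _ ≫ pr := (isPullback_resS φ U).lift_fst _ _ _
  have h2 : prW ≫ resS φ U = resS φ' W ≫ gW := (isPullback_resS φ U).lift_snd _ _ _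
  refine ⟨prW, gW, ?_, h1, hg⟩
  refine IsPullback.of_right ?_ h2 (isPullback_resS φ U)
  rw [h1, hg]
  exact (isPullback_resS φ' W).paste_horiz hpb

theorem action_small {X' Y' : Over S} {pr : X' ⟶ X} {φ' : X' ⟶ Y'}
    {U : Y.left.Opens} {W : Y'.left.Opens} {a' : AlgGrp.Action G X'}
    (ha' : a'.act ≫ pr = (G ◁ pr) ≫ a.act) {a'' : AlgGrp.Action G (opS (φ'.left ⁻¹ᵁ W))}
    (ha'' : a''.act ≫ iS _ = (G ◁ iS _) ≫ a'.act) {aU : AlgGrp.Action G (opS (φ.left ⁻¹ᵁ U))}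
    (haU : aU.act ≫ iS _ = (G ◁ iS _) ≫ a.act) {prW : opS (φ'.left ⁻¹ᵁ W) ⟶ opS (φ.left ⁻¹ᵁ U)}
    (hprW : prW ≫ iS _ = iS _ ≫ pr) : a''.act ≫ prW = (G ◁ prW) ≫ aU.act := by
  haveI := mono_iS (φ.left ⁻¹ᵁ U)
  rw [← cancel_mono (iS _), Category.assoc, Category.assoc, hprW, haU, ← Category.assoc, ha'', Category.assoc, ha',
    ← Category.assoc, ← Category.assoc, ← MonoidalCategory.whiskerLeft_comp, ← MonoidalCategory.whiskerLeft_comp, hprW]

/-- A universal categorical quotient over each member of an open cover is one. -/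
theorem isUnivCatQuot_of_cover (hi : GIT.IsInvariant a φ) {J : Type u} (U : J → Y.left.Opens)
    (hU : ∀ y, ∃ j, y ∈ U j)
    (h : ∀ (j : J) (aU : AlgGrp.Action G (opS (φ.left ⁻¹ᵁ U j))), aU.act ≫ iS _ = (G ◁ iS _) ≫ a.act →
      GIT.IsUnivCatQuot aU (resS φ (U j))) :
    GIT.IsUnivCatQuot a φ := by
  have main : ∀ {X' Y' : Over S} (pr : X' ⟶ X) (φ' : X' ⟶ Y') (g : Y' ⟶ Y), IsPullback pr φ' φ g →
      ∀ a' : AlgGrp.Action G X', a'.act ≫ pr = (G ◁ pr) ≫ a.act → GIT.IsInvariant a' φ' → GIT.IsCatQuot a' φ' := by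
    intro X' Y' pr φ' g hpb a' ha' hi'
    refine isCatQuot_of_small hi' (fun j => g.left ⁻¹ᵁ U j) (fun y => hU _) fun j W hW a'' ha'' => ?_
    obtain ⟨aU, haU, -⟩ := GITQuot.exists_action hi (isPullback_resS φ (U j))
    obtain ⟨prW, gW, hsq, h1, -⟩ := exists_isPullback_small hpb hW
    exact (h j aU haU).2 prW (resS φ' W) gW trivial hsq a'' (action_small ha' ha'' haU h1)
      (invariant_resS hi' a'' ha'')
  exact ⟨main (𝟙 X) φ (𝟙 Y) (IsPullback.of_horiz_isIso ⟨by simp⟩) a (by simp) hi,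
    fun _ _ pr φ' g _ hpb a' ha' hi' => main pr φ' g hpb a' ha' hi'⟩

/-- Quotient maps are local on the target. -/
theorem isQuotientMap_of_cover {X Y : Scheme.{u}} (f : X ⟶ Y) {J : Type*} (U : J → Y.Opens) (hU : ∀ y, ∃ j, y ∈ U j)
    (h : ∀ j, IsQuotientMap (f ∣_ U j).base) : IsQuotientMap f.base := by
  refine (isQuotientMap_iff _).2 ⟨isCoinducing_iff.2 fun s => ?_, fun y => ?_⟩
  · refine ⟨fun hs => ?_, fun hs => hs.preimage f.continuous⟩
    rw [isOpen_iff_forall_mem_open]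
    intro y hy
    obtain ⟨j, hj⟩ := hU y
    have hs' : IsOpen (f.base ⁻¹' s) := hs
    have ho : IsOpen (Subtype.val ⁻¹' s : Set (U j)) := by
      rw [← (h j).isOpen_preimage]
      have e : (f ∣_ U j).base ⁻¹' (Subtype.val ⁻¹' s) = Subtype.val ⁻¹' (f.base ⁻¹' s) := by
        ext x
        show ((f ∣_ U j).base x).1 ∈ s ↔ f.base x.1 ∈ s
        rw [morphismRestrict_base]
        rfl
      rw [e]
      exact hs'.preimage continuous_subtype_val
    refine ⟨Subtype.val '' (Subtype.val ⁻¹' s : Set (U j)), ?_, (U j).isOpen.isOpenMap_subtype_val _ ho,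
      ⟨⟨y, hj⟩, hy, rfl⟩⟩
    rintro _ ⟨z, hz, rfl⟩
    exact hz
  · obtain ⟨j, hj⟩ := hU y
    obtain ⟨x, hx⟩ := (h j).surjective ⟨y, hj⟩
    refine ⟨x.1, ?_⟩
    have := congrArg Subtype.val hx
    rwa [morphismRestrict_base] at this

/-- Universal submersiveness is local on the target. -/
theorem isUnivSubmersive_of_cover {X Y : Scheme.{u}} (f : X ⟶ Y) {J : Type*} (U : J → Y.Opens)
    (hU : ∀ y, ∃ j, y ∈ U j) (h : ∀ j, GIT.IsUnivSubmersive (f ∣_ U j)) : GIT.IsUnivSubmersive f := by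
  intro P T i₁ i₂ f' hsq
  refine isQuotientMap_of_cover f' (fun j => i₂ ⁻¹ᵁ U j) (fun y => hU _) fun j => ?_
  have sq := (isPullback_morphismRestrict f' (i₂ ⁻¹ᵁ U j)).paste_vert hsq
  have hR := isPullback_morphismRestrict f (U j)
  let l := hR.lift ((f' ∣_ (i₂ ⁻¹ᵁ U j)) ≫ i₂.resLE (U j) _ le_rfl) ((f' ⁻¹ᵁ (i₂ ⁻¹ᵁ U j)).ι ≫ i₁) (by
    rw [Category.assoc, Scheme.Hom.resLE_comp_ι]
    exact (Category.assoc _ _ _).symm.trans (by rw [morphismRestrict_ι, Category.assoc, hsq.w, Category.assoc]))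
  refine h j l (i₂.resLE (U j) _ le_rfl) (f' ∣_ (i₂ ⁻¹ᵁ U j)) ?_
  refine IsPullback.of_bot ?_ (hR.lift_fst _ _ _).symm hR
  rw [hR.lift_snd, Scheme.Hom.resLE_comp_ι]
  exact sq

end Groth.Agent.GITSS
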