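import Groth.Agent.GITSS.Finset
import Groth.Agent.GITSS.LocalQuot
import Groth.Agent.GITAff.Beta
import Mathlib.AlgebraicGeometry.Morphisms.QuasiSeparated
import Mathlib.AlgebraicGeometry.Morphisms.FiniteType

/-!
# Invariant functions on a nonvanishing locus extend to invariant sections
-/

set_option autoImplicit false
set_option backward.isDefEq.respectTransparency false
set_option backward.isDefEq.respectTransparency.types false
set_option linter.style.haveILetI false

universe u

open CategoryTheory MonoidalCategory CartesianMonoidalCategory MonObj AlgebraicGeometry Opposite TopologicalSpace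

noncomputable section

namespace Groth.Agent.GITSS

open HMProj

section Section

variable {S : Scheme.{u}} {X V : Over S} {π : V ⟶ X} [IsAffineHom π.left] (A : GLinSh.LinAtlas π)

include A in
/-- A function on a nonvanishing locus times a power of the section is a section. -/
theorem exists_section [CompactSpace X.left] [CompactSpace V.left] [QuasiSeparatedSpace V.left] {n : ℕ} (hn : 0 < n)
    {f : Γ(V.left, ⊤)} (hf : GLinSh.HasWeight A.chart n f) {U : X.left.Opens}
    (hU : (U : Set X.left) = GLinSh.nonvanishing π f) (r : Γ(X.left, U)) :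
    ∃ (E : ℕ) (s : Γ(V.left, ⊤)), GLinSh.HasWeight A.chart (E * n) s ∧ IsRatio π U (f ^ E) s r := by
  classical
  let D := V.left.basicOpen f
  have hDU : D ≤ π.left ⁻¹ᵁ U := fun v hv => by
    show π.left.base v ∈ (U : Set X.left)
    rw [hU]
    exact ⟨v, hv, rfl⟩
  obtain ⟨e, s₀, hs₀⟩ := exists_eq_pow_mul_of_isCompact_of_isQuasiSeparated V.left ⊤
    CompactSpace.isCompact_univ isQuasiSeparated_univ f (π.left.appLE U D hDU r)
  have hloc : ∀ x : X.left, ∃ (W : X.left.Opens) (U' : X.left.Opens) (hW : W ≤ U')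
      (y : Γ(V.left, π.left ⁻¹ᵁ U')) (c t : Γ(X.left, W)) (m M : ℕ) (hcU : X.left.basicOpen c ≤ U),
      y ∈ A.chart U' ∧ x ∈ W ∧ IsCoeff π (GLinSh.res π hW y) n f c ∧ X.left.basicOpen c = W ⊓ U ∧
      rX hcU r * rX (X.left.basicOpen_le c) c ^ m = rX (X.left.basicOpen_le c) t ∧
      GLinSh.resTop π W f ^ M * (GLinSh.resTop π W s₀ * π.left.app W c ^ m) =
        GLinSh.resTop π W f ^ M * (π.left.app W t * GLinSh.resTop π W f ^ e) := by
    intro x
    obtain ⟨U', hxU', y, hy⟩ := A.cover x
    obtain ⟨W, hWa, hxW, hW⟩ := Opens.isBasis_iff_nbhd.1 X.left.isBasis_affineOpens hxU'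
    replace hWa : IsAffineOpen W := hWa
    obtain ⟨c₀, hc₀⟩ := hf U' y hy
    have hc : IsCoeff π (GLinSh.res π hW y) n f (rX hW c₀) :=
      IsCoeff.res (π := π) (y := y) (n := n) (f := f) (c := c₀) hc₀ hW
    set c := rX hW c₀
    have hcW : X.left.basicOpen c = W ⊓ U := by
      refine SetLike.coe_injective ?_
      rw [← nonvanishing_inter (isFibreCoord_res (A.coord U' y hy) hW) hn hc, Opens.coe_inf, hU, Set.inter_comm]
    have hcU : X.left.basicOpen c ≤ U := hcW.le.trans inf_le_right
    haveI := hWa.isLocalization_basicOpen c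
    obtain ⟨⟨t, ⟨_, m, rfl⟩⟩, ht⟩ :=
      IsLocalization.surj (M := Submonoid.powers c) (rX hcU r : Γ(X.left, X.left.basicOpen c))
    have ht' : rX hcU r * rX (X.left.basicOpen_le c) c ^ m = rX (X.left.basicOpen_le c) t := by
      rw [← map_pow]; exact ht
    let z := GLinSh.resTop π W f
    have hz : V.left.basicOpen z = π.left ⁻¹ᵁ W ⊓ D := V.left.basicOpen_res f (homOfLE le_top).op
    obtain ⟨M, hM⟩ := exists_pow_mul_eq_zero_of_res_basicOpen_eq_zero_of_isCompact V.left
      (hWa.preimage π.left).isCompact (GLinSh.resTop π W s₀ * π.left.app W c ^ m - π.left.app W t * z ^ e) z (by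
        have hDW : V.left.basicOpen z ≤ D := hz.le.trans inf_le_right
        have hDc : V.left.basicOpen z ≤ π.left ⁻¹ᵁ X.left.basicOpen c := fun v hv => by
          rw [hcW]
          exact ⟨(hz.le hv).1, hDU (hz.le hv).2⟩
        let ρ := (V.left.presheaf.map (homOfLE (V.left.basicOpen_le z)).op).hom
        let α := (V.left.presheaf.map (homOfLE (le_top : V.left.basicOpen z ≤ ⊤)).op).hom
        have hα : ∀ w, ρ (GLinSh.resTop π W w) = α w := fun w => by
          show (V.left.presheaf.map _ ≫ V.left.presheaf.map _) w = _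
          rw [← Functor.map_comp]; rfl
        have hβ : ∀ w, ρ (π.left.app W w) = π.left.appLE W (V.left.basicOpen z) (V.left.basicOpen_le z) w := fun w => by
          rw [Scheme.Hom.app_eq_appLE]
          show (π.left.appLE W (π.left ⁻¹ᵁ W) le_rfl ≫ V.left.presheaf.map _) w = _
          rw [Scheme.Hom.appLE_map]
        have hβc : ∀ w, π.left.appLE (X.left.basicOpen c) (V.left.basicOpen z) hDc (rX (X.left.basicOpen_le c) w) =
            π.left.appLE W (V.left.basicOpen z) (V.left.basicOpen_le z) w := fun w => by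
          show (X.left.presheaf.map _ ≫ π.left.appLE _ _ _) w = _
          rw [Scheme.Hom.map_appLE]
        have hβU : π.left.appLE (X.left.basicOpen c) (V.left.basicOpen z) hDc (rX hcU r) =
            π.left.appLE U (V.left.basicOpen z) (hDW.trans hDU) r := by
          show (X.left.presheaf.map _ ≫ π.left.appLE _ _ _) r = _
          rw [Scheme.Hom.map_appLE]
        have e0 : α s₀ = α f ^ e * π.left.appLE U (V.left.basicOpen z) (hDW.trans hDU) r := by
          have h := congrArg (V.left.presheaf.map (homOfLE hDW).op).hom hs₀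
          rw [map_mul, map_pow] at h
          refine Eq.trans ?_ (h.trans ?_)
          · show α s₀ = (V.left.presheaf.map _ ≫ V.left.presheaf.map _) s₀
            rw [← Functor.map_comp]; rfl
          · congr 1
            · refine congrArg (· ^ e) ?_
              show (V.left.presheaf.map _ ≫ V.left.presheaf.map _) f = _
              rw [← Functor.map_comp]; rfl
            · show (π.left.appLE U D hDU ≫ V.left.presheaf.map _) r = _
              rw [Scheme.Hom.appLE_map]
        have e1 := congrArg (π.left.appLE (X.left.basicOpen c) (V.left.basicOpen z) hDc).hom ht'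
        rw [map_mul, map_pow] at e1
        erw [hβc, hβc, hβU] at e1
        show ρ _ = 0
        rw [map_sub, map_mul, map_mul, map_pow, map_pow, sub_eq_zero]
        erw [hα, hα, hβ, hβ, e0, ← e1]
        ring)
    refine ⟨W, U', hW, y, c, t, m, M, hcU, hy, hxW, hc, hcW, ht', ?_⟩
    rw [← sub_eq_zero, ← mul_sub]
    exact hM
  choose W U' hW y c t m M hcU hy hxW hc hcW ht hM using hloc
  obtain ⟨F, hF⟩ := isCompact_univ.elim_finite_subcover (fun x : X.left => ((W x : X.left.Opens) : Set X.left))
    (fun x => (W x).2) fun x _ => Set.mem_iUnion.2 ⟨x, hxW x⟩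
  let N := ∑ x ∈ F, (M x + m x)
  let s := s₀ * f ^ N
  have hcov : ∀ x : X.left, ∃ p ∈ F, x ∈ W p := fun x => by
    simpa using hF (Set.mem_univ x)
  have hd : ∀ p ∈ F, ∃ d : Γ(X.left, W p),
      IsCoeff π (GLinSh.res π (hW p) (y p)) ((e + N) * n) s d ∧
      rX (X.left.basicOpen_le (c p)) d = rX (hcU p) r * rX (X.left.basicOpen_le (c p)) (c p) ^ (e + N) := by
    intro p hp
    obtain ⟨l, hl⟩ := Nat.exists_eq_add_of_le
      (Finset.single_le_sum (f := fun x => M x + m x) (fun _ _ => Nat.zero_le _) hp : M p + m p ≤ N)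
    refine ⟨c p ^ (l + M p + e) * t p, ?_, ?_⟩
    · unfold IsCoeff
      have hz : GLinSh.resTop π (W p) f = π.left.app (W p) (c p) * GLinSh.res π (hW p) (y p) ^ n := hc p
      have key := hM p
      rw [resTop_mul, show GLinSh.resTop π (W p) (f ^ N) = GLinSh.resTop π (W p) f ^ N from map_pow _ _ _,
        show N = M p + m p + l from hl, map_mul, map_pow]
      rw [hz] at key ⊢
      calc GLinSh.resTop π (W p) s₀ * (π.left.app (W p) (c p) * GLinSh.res π (hW p) (y p) ^ n) ^ (M p + m p + l)
          = (π.left.app (W p) (c p) * GLinSh.res π (hW p) (y p) ^ n) ^ M p *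
              (GLinSh.resTop π (W p) s₀ * π.left.app (W p) (c p) ^ m p) *
              ((GLinSh.res π (hW p) (y p) ^ n) ^ m p *
                (π.left.app (W p) (c p) * GLinSh.res π (hW p) (y p) ^ n) ^ l) := by ring
        _ = _ := by rw [key]; ring
    · have hu : IsUnit (rX (X.left.basicOpen_le (c p)) (c p)) := RingedSpace.isUnit_res_basicOpen _ (c p)
      refine (hu.pow (m p)).mul_left_injective ?_
      show _ * _ = _ * _
      rw [show rX (X.left.basicOpen_le (c p)) (c p ^ (l + M p + e) * t p) =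
          rX (X.left.basicOpen_le (c p)) (c p) ^ (l + M p + e) * rX (X.left.basicOpen_le (c p)) (t p) from by
        show (X.left.presheaf.map _).hom _ = _
        rw [map_mul, map_pow], ← ht p, show N = M p + m p + l from hl]
      ring
  choose d hd hdr using hd
  have hs : GLinSh.HasWeight A.chart ((e + N) * n) s := hasWeight_of_charts A fun x => by
    obtain ⟨p, hp, hxp⟩ := hcov x
    exact ⟨U' p, y p, hy p, W p, hW p, hxp, d p hp, hd p hp⟩
  refine ⟨e + N, s, hs, ?_⟩
  refine V.left.sheaf.eq_of_locally_eq' (fun p : F => π.left ⁻¹ᵁ X.left.basicOpen (c p.1)) _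
    (fun p => homOfLE (π.left.preimage_mono (hcU p.1))) (fun v hv => ?_) _ _ fun p => ?_
  · obtain ⟨p, hp, hxp⟩ := hcov (π.left.base v)
    exact Opens.mem_iSup.2 ⟨⟨p, hp⟩, (hcW p).ge ⟨hxp, hv⟩⟩
  · show GLinSh.res π (hcU p.1) _ = GLinSh.res π (hcU p.1) _
    rw [res_resTop, res_mul, res_app, res_resTop]
    have e1 : IsCoeff π _ _ s (rX (X.left.basicOpen_le (c p.1)) (d p.1 p.2)) :=
      (hd p.1 p.2).res (X.left.basicOpen_le (c p.1))
    have e2 : IsCoeff π _ _ f (rX (X.left.basicOpen_le (c p.1)) (c p.1)) := (hc p.1).res (X.left.basicOpen_le (c p.1))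
    unfold IsCoeff at e1 e2
    rw [e1, show GLinSh.resTop π _ (f ^ (e + N)) = GLinSh.resTop π _ f ^ (e + N) from map_pow _ _ _, e2, hdr p.1 p.2,
      map_mul, map_pow, mul_pow, ← pow_mul, mul_comm (e + N) n, _root_.mul_assoc]

end Section

variable {k : Type u} [Field k] {G X : Over (Spec (CommRingCat.of k))} [GrpObj G] {a : AlgGrp.Action G X}
  (B : GLinSh.LinBun G a)

/-- An invariant function on a nonvanishing locus times a power of the section is an invariant section. -/
theorem exists_invSection [IsAffineHom G.hom] [LocallyOfFiniteType X.hom] [QuasiCompact X.hom] {n : ℕ} (hn : 0 < n)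
    {f : Γ(B.V.left, ⊤)} (hf : B.IsInvSection n f) {U : X.left.Opens}
    (hU : (U : Set X.left) = GLinSh.nonvanishing B.π f) (aU : AlgGrp.Action G (opS U))
    (haU : aU.act ≫ iS U = (G ◁ iS U) ≫ a.act) (r : Γ(U.toScheme, ⊤))
    (hr : aU.act.left.appTop r = (snd G (opS U)).left.appTop r) :
    ∃ (E : ℕ) (s : Γ(B.V.left, ⊤)), B.IsInvSection (E * n) s ∧ IsRatio B.π U (f ^ E) s (U.topIso.hom r) := by
  haveI := B.atlas.affine
  haveI : CompactSpace X.left := QuasiCompact.compactSpace_of_compactSpace X.hom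
  haveI : IsLocallyNoetherian X.left := LocallyOfFiniteType.isLocallyNoetherian X.hom
  haveI : CompactSpace B.V.left := QuasiCompact.compactSpace_of_compactSpace B.π.left
  haveI : QuasiSeparatedSpace B.V.left := quasiSeparatedSpace_of_quasiSeparated B.π.left
  obtain ⟨E, s, hs, hrat⟩ := exists_section B.atlas hn hf.1 hU (U.topIso.hom r)
  let D := B.V.left.basicOpen f
  have hDU : D ≤ B.π.left ⁻¹ᵁ U := fun v hv => by
    show B.π.left.base v ∈ (U : Set X.left)
    rw [hU]
    exact ⟨v, hv, rfl⟩
  have hsU : (iS (B.π.left ⁻¹ᵁ U)).left.appTop s =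
      (resS B.π U).left.appTop r * (iS (B.π.left ⁻¹ᵁ U)).left.appTop f ^ E := by
    have hι : ∀ w, (B.π.left ⁻¹ᵁ U).topIso.hom ((iS (B.π.left ⁻¹ᵁ U)).left.appTop w) = GLinSh.resTop B.π U w := fun w => by
      show ((B.π.left ⁻¹ᵁ U).ι.appTop ≫ (B.π.left ⁻¹ᵁ U).topIso.hom) w = _
      rw [Scheme.Hom.appTop, Scheme.Opens.ι_app, Scheme.Opens.topIso_hom, ← Functor.map_comp]
      rfl
    have hπ : (B.π.left ⁻¹ᵁ U).topIso.hom ((resS B.π U).left.appTop r) = B.π.left.app U (U.topIso.hom r) := by
      show ((B.π.left ∣_ U).appTop ≫ (B.π.left ⁻¹ᵁ U).topIso.hom) r = (U.topIso.hom ≫ B.π.left.app U) r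
      rw [Scheme.Hom.appTop, morphismRestrict_app, Scheme.Opens.topIso_hom, Scheme.Opens.topIso_hom,
        Scheme.Hom.naturality, Category.assoc, ← Functor.map_comp]
      rfl
    have hinj := (ConcreteCategory.bijective_of_isIso (B.π.left ⁻¹ᵁ U).topIso.hom).1
    refine hinj ?_
    rw [map_mul, map_pow, hι, hι, hπ, ← map_pow]
    exact hrat
  let πD : opS D ⟶ opS U := leS hDU ≫ resS B.π U
  have hπD : πD ≫ iS U = iS D ≫ B.π := by
    rw [Category.assoc, ← (isPullback_resS B.π U).w, ← Category.assoc, leS_iS]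
  have hsD : (iS D).left.appTop s = πD.left.appTop r * (iS D).left.appTop f ^ E := by
    rw [← leS_iS hDU]
    simp only [πD, Over.comp_left, Scheme.Hom.comp_appTop, CommRingCat.comp_apply]
    rw [hsU, map_mul, map_pow]
  have hfi : B.lift.act.left.appTop f = (snd G B.V).left.appTop f := hf.2
  have hmem : ∀ q : (G ⊗ opS D).left, B.lift.act.left.base ((G ◁ iS D).left.base q) ∈ D := fun q => by
    show (G ◁ iS D).left.base q ∈ B.lift.act.left ⁻¹ᵁ B.V.left.basicOpen f
    rw [Scheme.preimage_basicOpen_top, hfi, ← Scheme.preimage_basicOpen_top]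
    show (snd G B.V).left.base ((G ◁ iS D).left.base q) ∈ D
    rw [← Scheme.Hom.comp_apply, ← Over.comp_left, whiskerLeft_snd, Over.comp_left, Scheme.Hom.comp_apply]
    exact ((snd G (opS D)).left.base q).2
  let M₀ : G ⊗ opS D ⟶ B.V := (G ◁ iS D) ≫ B.lift.act
  have hrange : Set.range M₀.left.base ⊆ Set.range D.ι.base := by
    rintro _ ⟨q, rfl⟩
    rw [Scheme.Opens.range_ι]
    exact hmem q
  let m : G ⊗ opS D ⟶ opS D := Over.homMk (IsOpenImmersion.lift D.ι M₀.left hrange) (by
    show IsOpenImmersion.lift D.ι M₀.left hrange ≫ D.ι ≫ B.V.hom = _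
    rw [IsOpenImmersion.lift_fac_assoc, Over.w M₀])
  have hm : m ≫ iS D = M₀ := Over.OverMorphism.ext (IsOpenImmersion.lift_fac D.ι M₀.left hrange)
  have hmπ : m ≫ πD = (G ◁ πD) ≫ aU.act := by
    haveI := mono_iS U
    rw [← cancel_mono (iS U), Category.assoc m, Category.assoc (G ◁ πD), hπD, haU, ← Category.assoc, hm]
    simp only [M₀, Category.assoc]
    rw [B.lift_π, ← Category.assoc, ← Category.assoc, ← MonoidalCategory.whiskerLeft_comp,
      ← MonoidalCategory.whiskerLeft_comp, hπD]
  have key : M₀.left.appTop s = ((G ◁ iS D) ≫ snd G B.V).left.appTop s := by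
    have h2 : (m ≫ πD).left.appTop r = (snd G (opS D) ≫ πD).left.appTop r := by
      rw [hmπ, Over.comp_left, Scheme.Hom.comp_appTop, CommRingCat.comp_apply, hr, ← CommRingCat.comp_apply,
        ← Scheme.Hom.comp_appTop, ← Over.comp_left, whiskerLeft_snd]
    have h3 : M₀.left.appTop f = (snd G (opS D) ≫ iS D).left.appTop f := by
      simp only [M₀, Over.comp_left, Scheme.Hom.comp_appTop, CommRingCat.comp_apply]
      rw [hfi, ← CommRingCat.comp_apply, ← Scheme.Hom.comp_appTop, ← Over.comp_left, whiskerLeft_snd, Over.comp_left,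
        Scheme.Hom.comp_appTop, CommRingCat.comp_apply]
    rw [← hm, whiskerLeft_snd]
    simp only [Over.comp_left, Scheme.Hom.comp_appTop, CommRingCat.comp_apply] at h2 h3 ⊢
    rw [hsD, map_mul, map_mul, map_pow, map_pow, h2]
    congr 2
    rw [← h3, ← CommRingCat.comp_apply, ← Scheme.Hom.comp_appTop, ← Over.comp_left, hm]
  haveI : CompactSpace (G ⊗ B.V).left := by
    haveI : QuasiCompact (snd G B.V).left := inferInstanceAs (QuasiCompact (CategoryTheory.Limits.pullback.snd G.hom B.V.hom))
    exact QuasiCompact.compactSpace_of_compactSpace (snd G B.V).left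
  haveI : IsOpenImmersion (G ◁ iS D).left :=
    MorphismProperty.of_isPullback (P := @IsOpenImmersion)
      ((GITQuot.isPullback_left (GITQuot.isPullback_tensorLeft (G := G) (iS D))).flip)
      (inferInstanceAs (IsOpenImmersion D.ι))
  let z := (snd G B.V).left.appTop f
  have hz : (G ◁ iS D).left.opensRange = (G ⊗ B.V).left.basicOpen z := by
    rw [← Scheme.preimage_basicOpen_top]
    refine Opens.ext (Set.ext fun q => ⟨?_, fun hq => ?_⟩)
    · rintro ⟨w, rfl⟩
      show (snd G B.V).left.base ((G ◁ iS D).left.base w) ∈ D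
      rw [← Scheme.Hom.comp_apply, ← Over.comp_left, whiskerLeft_snd, Over.comp_left, Scheme.Hom.comp_apply]
      exact ((snd G (opS D)).left.base w).2
    · obtain ⟨w, hw, -⟩ := Scheme.exists_preimage_of_isPullback
        (GITQuot.isPullback_left (GITQuot.isPullback_tensorLeft (G := G) (iS D))) q
        (⟨(snd G B.V).left.base q, hq⟩ : (opS D).left) rfl
      exact ⟨w, hw⟩
  have hδ : ((G ⊗ B.V).left.presheaf.map (homOfLE le_top).op :
      Γ((G ⊗ B.V).left, ⊤) ⟶ Γ((G ⊗ B.V).left, (G ⊗ B.V).left.basicOpen z))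
        (B.lift.act.left.appTop s - (snd G B.V).left.appTop s) = 0 := by
    refine (GITAff.bijective_appLE_opensRange (G ◁ iS D).left hz
      (by rw [← hz, Scheme.Hom.preimage_opensRange])).1 ?_
    rw [map_zero, ← CommRingCat.comp_apply, Scheme.Hom.map_appLE]
    show (G ◁ iS D).left.appLE ⊤ ⊤ le_top _ = 0
    rw [show (G ◁ iS D).left.appLE ⊤ ⊤ le_top = (G ◁ iS D).left.appTop from ((G ◁ iS D).left.app_eq_appLE (U := ⊤)).symm,
      map_sub, sub_eq_zero]
    simp only [M₀, Over.comp_left, Scheme.Hom.comp_appTop, CommRingCat.comp_apply] at key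
    exact key
  obtain ⟨N, hN⟩ := exists_pow_mul_eq_zero_of_res_basicOpen_eq_zero_of_isCompact (G ⊗ B.V).left
    CompactSpace.isCompact_univ _ z hδ
  refine ⟨E + N, s * f ^ N, ⟨?_, ?_⟩, ?_⟩
  · rw [add_mul]
    exact hasWeight_mul B.atlas hs (hasWeight_pow B.atlas hf.1 N)
  · show B.lift.act.left.appTop _ = (snd G B.V).left.appTop _
    rw [map_mul, map_mul, map_pow, map_pow, hfi, ← sub_eq_zero, ← sub_mul, _root_.mul_comm]
    exact hN
  · show GLinSh.resTop B.π U _ = _
    rw [resTop_mul, show GLinSh.resTop B.π U s = _ from hrat, _root_.mul_assoc, ← resTop_mul, ← pow_add]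

end Groth.Agent.GITSS
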