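import Groth.Agent.HMProj.Invariant
import Mathlib.AlgebraicGeometry.ResidueField

/-!
# One invariant section for finitely many semistable points
-/

set_option autoImplicit false
set_option backward.isDefEq.respectTransparency false
set_option backward.isDefEq.respectTransparency.types false
set_option linter.style.haveILetI false

universe u

open CategoryTheory MonoidalCategory CartesianMonoidalCategory MonObj AlgebraicGeometry Opposite TopologicalSpace

noncomputable section

namespace Groth.Agent.GITSS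

open HMProj

variable {k : Type u} [Field k] {G X : Over (Spec (CommRingCat.of k))} [GrpObj G] {a : AlgGrp.Action G X}
  (B : GLinSh.LinBun G a)

/-- A constant on the total space. -/
def cst (z : k) : Γ(B.V.left, ⊤) :=
  B.V.hom.appTop ((Scheme.ΓSpecIso (CommRingCat.of k)).inv z)

/-- A constant on an open of the base. -/
def cX (U : X.left.Opens) : k →+* Γ(X.left, U) :=
  ((Scheme.ΓSpecIso (CommRingCat.of k)).inv ≫ X.hom.appLE ⊤ U le_top).hom

theorem cst_invariant (z : k) : GLinSh.IsInvFn B.lift (cst B z) := by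
  show (B.V.hom.appTop ≫ B.lift.act.left.appTop) _ = (B.V.hom.appTop ≫ (snd G B.V).left.appTop) _
  rw [← Scheme.Hom.comp_appTop, ← Scheme.Hom.comp_appTop, Over.w, Over.w]

theorem resTop_cst (U : X.left.Opens) (z : k) :
    GLinSh.resTop B.π U (cst B z) = B.π.left.app U (cX U z) := by
  show (B.V.hom.appTop ≫ B.V.left.presheaf.map (homOfLE le_top).op) _ =
    (X.hom.appLE ⊤ U le_top ≫ B.π.left.app U) _
  have h : B.V.hom.appTop ≫ B.V.left.presheaf.map (homOfLE (le_top : B.π.left ⁻¹ᵁ U ≤ ⊤)).op =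
      X.hom.appLE ⊤ U le_top ≫ B.π.left.app U := by
    rw [← Scheme.Hom.appLE_eq_app, Scheme.Hom.appLE_comp_appLE]
    simp only [show B.π.left ≫ X.hom = B.V.hom from Over.w B.π]
    rfl
  rw [h]
  rfl

theorem hasWeight_cst (z : k) : GLinSh.HasWeight B.atlas.chart 0 (cst B z) :=
  fun U y _ => ⟨cX U z, by rw [pow_zero, _root_.mul_one, resTop_cst]⟩

/-- A combination of sections of one weight. -/
def comb {J : Type*} [Fintype J] (c : J → k) (f : J → Γ(B.V.left, ⊤)) : Γ(B.V.left, ⊤) :=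
  ∑ j, cst B (c j) * f j

theorem hasWeight_comb {J : Type*} [Fintype J] {n : ℕ} (c : J → k) {f : J → Γ(B.V.left, ⊤)}
    (hf : ∀ j, GLinSh.HasWeight B.atlas.chart n (f j)) : GLinSh.HasWeight B.atlas.chart n (comb B c f) :=
  hasWeight_sum B.atlas Finset.univ _ fun j _ => by
    simpa using hasWeight_mul B.atlas (hasWeight_cst B (c j)) (hf j)

theorem isInvFn_comb {J : Type*} [Fintype J] (c : J → k) {f : J → Γ(B.V.left, ⊤)}
    (hf : ∀ j, GLinSh.IsInvFn B.lift (f j)) : GLinSh.IsInvFn B.lift (comb B c f) := by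
  show B.lift.act.left.appTop _ = (snd G B.V).left.appTop _
  rw [comb, map_sum, map_sum]
  exact Finset.sum_congr rfl fun j _ => by rw [map_mul, map_mul, cst_invariant B (c j), hf j]

theorem isCoeff_comb {J : Type*} [Fintype J] {n : ℕ} (c : J → k) {f : J → Γ(B.V.left, ⊤)} {U : X.left.Opens}
    {y : Γ(B.V.left, B.π.left ⁻¹ᵁ U)} {d : J → Γ(X.left, U)} (hd : ∀ j, IsCoeff B.π y n (f j) (d j)) :
    IsCoeff B.π y n (comb B c f) (∑ j, cX U (c j) * d j) := by
  show GLinSh.resTop B.π U _ = _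
  rw [comb, resTop_sum, map_sum, Finset.sum_mul]
  refine Finset.sum_congr rfl fun j _ => ?_
  rw [resTop_mul, resTop_cst, map_mul, show GLinSh.resTop B.π U (f j) = _ from hd j, _root_.mul_assoc]

/-- A combination which vanishes at none of finitely many points. -/
theorem exists_comb [Infinite k] {N n : ℕ} (hn : 0 < n) {f : Fin N → Γ(B.V.left, ⊤)}
    (hf : ∀ j, GLinSh.HasWeight B.atlas.chart n (f j)) (s : Finset X.left)
    (hs : ∀ x ∈ s, ∃ j, x ∈ GLinSh.nonvanishing B.π (f j)) :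
    ∃ c : Fin N → k, ∀ x ∈ s, x ∈ GLinSh.nonvanishing B.π (comb B c f) := by
  classical
  haveI := B.atlas.affine
  have hbad : ∀ x ∈ s, {t : k | x ∉ GLinSh.nonvanishing B.π (comb B (fun j : Fin N => t ^ (j : ℕ)) f)}.Finite := by
    intro x hx
    obtain ⟨j₀, hj₀⟩ := hs x hx
    obtain ⟨U, hxU, y, hy⟩ := B.atlas.cover x
    choose d hd using fun j => hf j U y hy
    let θ : k →+* X.left.residueField x := (X.left.evaluation U x hxU).hom.comp (cX U)
    let p : Polynomial (X.left.residueField x) :=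
      ∑ j : Fin N, Polynomial.monomial (j : ℕ) (X.left.evaluation U x hxU (d j))
    have hp : p ≠ 0 := fun h0 => by
      have := congrArg (fun q => Polynomial.coeff q (j₀ : ℕ)) h0
      simp only [p, Polynomial.finset_sum_coeff, Polynomial.coeff_monomial, Polynomial.coeff_zero] at this
      rw [Finset.sum_eq_single j₀ (fun j _ hj => if_neg fun h => hj (Fin.ext h)) (by simp), if_pos rfl] at this
      exact (X.left.evaluation_ne_zero_iff_mem_basicOpen x hxU _).2
        ((nonvanishing_inter (B.atlas.coord U y hy) hn (hd j₀)).le ⟨hj₀, hxU⟩) this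
    refine ((p.roots.toFinset.finite_toSet).preimage θ.injective.injOn).subset fun t ht => ?_
    show θ t ∈ (p.roots.toFinset : Set _)
    rw [Finset.mem_coe, Multiset.mem_toFinset, Polynomial.mem_roots hp]
    by_contra hne
    refine ht ((nonvanishing_inter (B.atlas.coord U y hy) hn
      (isCoeff_comb B (fun j : Fin N => t ^ (j : ℕ)) hd)).ge ?_).1
    refine (X.left.evaluation_ne_zero_iff_mem_basicOpen x hxU _).1 fun h0 => hne ?_
    rw [Polynomial.IsRoot, Polynomial.eval_finset_sum]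
    simp only [map_sum, map_mul, map_pow] at h0
    simpa [θ, Polynomial.eval_monomial, _root_.mul_comm] using h0
  obtain ⟨t, ht⟩ := ((Set.Finite.biUnion s.finite_toSet hbad).infinite_compl).nonempty
  simp only [Set.mem_compl_iff, Set.mem_iUnion, Finset.mem_coe, not_exists, Set.mem_setOf_eq, not_not] at ht
  exact ⟨_, ht⟩

theorem exists_mem_of_mem_comb {J : Type*} [Fintype J] {n : ℕ} (hn : 0 < n) (c : J → k) {f : J → Γ(B.V.left, ⊤)}
    (hf : ∀ j, GLinSh.HasWeight B.atlas.chart n (f j)) {x : X.left}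
    (hx : x ∈ GLinSh.nonvanishing B.π (comb B c f)) : ∃ j, x ∈ GLinSh.nonvanishing B.π (f j) := by
  haveI := B.atlas.affine
  obtain ⟨U, hxU, y, hy⟩ := B.atlas.cover x
  choose d hd using fun j => hf j U y hy
  by_contra! h
  have h0 : ∀ j, X.left.evaluation U x hxU (d j) = 0 := fun j => not_not.1 fun hne =>
    h j ((nonvanishing_inter (B.atlas.coord U y hy) hn (hd j)).ge
      ((X.left.evaluation_ne_zero_iff_mem_basicOpen x hxU _).1 hne)).1
  refine (X.left.evaluation_ne_zero_iff_mem_basicOpen x hxU _).2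
    ((nonvanishing_inter (B.atlas.coord U y hy) hn (isCoeff_comb B c hd)).le ⟨hx, hxU⟩) ?_
  simp [map_sum, h0]

/-- The nonvanishing locus of a combination of sections with affine loci is affine. -/
theorem isAffineOpen_comb {J : Type*} [Fintype J] {n : ℕ} (hn : 0 < n) (c : J → k) {f : J → Γ(B.V.left, ⊤)}
    (hf : ∀ j, GLinSh.HasWeight B.atlas.chart n (f j)) {U : J → X.left.Opens}
    (hU : ∀ j, (U j : Set X.left) = GLinSh.nonvanishing B.π (f j)) (hUa : ∀ j, IsAffineOpen (U j)) :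
    haveI := B.atlas.affine
    IsAffineOpen (nvOpen B.atlas hn (hasWeight_comb B c hf)) := by
  haveI := B.atlas.affine
  have hF := hasWeight_comb B c hf
  let D := nvOpen B.atlas hn hF
  choose r hr using fun j => exists_ratio B.atlas hn hF (hf j) (D := D) subset_rfl
  choose q hq using fun j => exists_ratio B.atlas hn (hf j) hF (D := U j) (hU j).le
  have hbr : ∀ j, X.left.basicOpen (r j) = D ⊓ U j := fun j => by
    refine SetLike.coe_injective ?_
    rw [basicOpen_ratio B.atlas hn hF (hf j) subset_rfl (hr j), Opens.coe_inf, hU j]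
  have haff : ∀ j, IsAffineOpen (D ⊓ U j) := fun j => by
    have e : X.left.basicOpen (q j) = D ⊓ U j := by
      refine SetLike.coe_injective ?_
      rw [basicOpen_ratio B.atlas hn (hf j) hF (hU j).le (hq j), Opens.coe_inf, Set.inter_comm]
      rfl
    exact e ▸ (hUa j).basicOpen _
  refine isAffineOpen_of_isAffineOpen_basicOpen D (Set.range r) ?_
    (by rintro _ ⟨j, rfl⟩; rw [hbr j]; exact haff j)
  have h1 : ∑ j, cX D (c j) * r j = 1 := by
    refine IsRatio.unique B.atlas hn hF (D := D) subset_rfl ?_ (s := comb B c f) ?_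
    · show GLinSh.resTop B.π D _ = _
      rw [map_sum, Finset.sum_mul]
      conv_lhs => rw [comb, resTop_sum]
      refine Finset.sum_congr rfl fun j _ => ?_
      rw [resTop_mul, resTop_cst, map_mul, show GLinSh.resTop B.π D (f j) = _ from hr j, _root_.mul_assoc]
    · show GLinSh.resTop B.π D _ = _
      rw [map_one, _root_.one_mul]
  rw [Ideal.eq_top_iff_one, ← h1]
  exact Ideal.sum_mem _ fun j _ => Ideal.mul_mem_left _ _ (Ideal.subset_span ⟨j, rfl⟩)

theorem psi_fst_mem_iff {f : Γ(B.V.left, ⊤)} (hf : GLinSh.IsInvFn B.lift f) {T : Over (Spec (CommRingCat.of k))}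
    (g : T ⟶ X) (r : (G ⊗ T).left) :
    (fst X T).left.base ((GIT.psi a g).left.base r) ∈ GLinSh.nonvanishing B.π f ↔
      g.left.base ((snd G T).left.base r) ∈ GLinSh.nonvanishing B.π f := by
  rw [← Scheme.Hom.comp_apply, ← Over.comp_left, GIT.psi, lift_fst, Over.comp_left, Scheme.Hom.comp_apply,
    mem_iff_of_invariant B hf, ← Scheme.Hom.comp_apply, ← Over.comp_left, whiskerLeft_snd, Over.comp_left,
    Scheme.Hom.comp_apply]

/-- Closedness of orbits is local for invariant opens. -/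
theorem closedOrbitsOn_of_cover {J : Type*} {f : J → Γ(B.V.left, ⊤)} (hf : ∀ j, GLinSh.IsInvFn B.lift (f j))
    {U : J → X.left.Opens} (hU : ∀ j, (U j : Set X.left) = GLinSh.nonvanishing B.π (f j))
    (hcl : ∀ j, GLinSh.ClosedOrbitsOn a (U j)) {D : X.left.Opens} (hD : ∀ x ∈ D, ∃ j, x ∈ U j) :
    GLinSh.ClosedOrbitsOn a D := by
  intro Ω _ _ T e g _
  let R := Set.range (GIT.psi a g).left.base
  rw [← isOpen_compl_iff, isOpen_iff_forall_mem_open]
  rintro ⟨p, hp⟩ hpR
  obtain ⟨j, hj⟩ := hD _ hp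
  haveI : Subsingleton T.left := e.hom.homeomorph.injective.subsingleton
  have key : ∃ O : Set (X ⊗ T).left, IsOpen O ∧ p ∈ O ∧ ∀ z ∈ O, z ∉ R := by
    by_cases hg : Set.range g.left.base ⊆ (U j : Set X.left)
    · refine ⟨Subtype.val '' ((fun q : (fst X T).left ⁻¹ᵁ U j => (q : (X ⊗ T).left)) ⁻¹' R)ᶜ,
        ((fst X T).left ⁻¹ᵁ U j).isOpen.isOpenMap_subtype_val _ (hcl j Ω T e g hg).isOpen_compl,
        ⟨⟨p, hj⟩, hpR, rfl⟩, ?_⟩
      rintro _ ⟨q, hq, rfl⟩
      exact hq
    · refine ⟨((fst X T).left ⁻¹ᵁ U j : Set (X ⊗ T).left), ((fst X T).left ⁻¹ᵁ U j).isOpen, hj, ?_⟩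
      rintro _ hz ⟨r, rfl⟩
      refine hg ?_
      rintro _ ⟨t, rfl⟩
      have hz' : (fst X T).left.base ((GIT.psi a g).left.base r) ∈ (U j : Set X.left) := hz
      rw [hU, psi_fst_mem_iff B (hf j), ← hU] at hz'
      rwa [Subsingleton.elim t ((snd G T).left.base r)]
  obtain ⟨O, hO, hpO, hOR⟩ := key
  exact ⟨Subtype.val ⁻¹' O, fun q hq => hOR _ hq, hO.preimage continuous_subtype_val, hpO⟩

/-- A section for finitely many semistable points. -/
theorem exists_finset [Infinite k] (s : Finset X.left) (hs : ∀ x ∈ s, B.IsSemistablePt x) :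
    ∃ (n : ℕ) (f : Γ(B.V.left, ⊤)) (Uf : X.left.Opens), 1 ≤ n ∧ B.IsInvSection n f ∧
      (Uf : Set X.left) = GLinSh.nonvanishing B.π f ∧ IsAffineOpen Uf ∧ (∀ x ∈ s, x ∈ Uf) ∧
      ((∀ x ∈ s, B.IsStablePt x) → GLinSh.ClosedOrbitsOn a Uf) := by
  classical
  haveI := B.atlas.affine
  have hw : ∀ x : s, ∃ (n : ℕ) (f : Γ(B.V.left, ⊤)), 1 ≤ n ∧ B.IsInvSection n f ∧
      x.1 ∈ GLinSh.nonvanishing B.π f ∧ ∃ U : X.left.Opens, (U : Set X.left) = GLinSh.nonvanishing B.π f ∧
        IsAffineOpen U ∧ (B.IsStablePt x.1 → GLinSh.ClosedOrbitsOn a U) := fun x => by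
    by_cases h : B.IsStablePt x.1
    · obtain ⟨n, f, hn, hf, hx, U, hU, hUa, hc⟩ := h
      exact ⟨n, f, hn, hf, hx, U, hU, hUa, fun _ => hc⟩
    · obtain ⟨n, f, hn, hf, hx, U, hU, hUa⟩ := hs _ x.2
      exact ⟨n, f, hn, hf, hx, U, hU, hUa, fun h' => absurd h' h⟩
  choose m g hm hg hxg U hU hUa hUc using hw
  let e := Fintype.equivFin s
  let n := ∏ x : s, m x
  have hn : 0 < n := Finset.prod_pos fun x _ => hm x
  have hdvd : ∀ x, m x ∣ n := fun x => Finset.dvd_prod_of_mem _ (Finset.mem_univ x)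
  have hpos : ∀ x, 0 < n / m x := fun x => Nat.div_pos (Nat.le_of_dvd hn (hdvd x)) (hm x)
  let F : Fin (Fintype.card s) → Γ(B.V.left, ⊤) := fun i => g (e.symm i) ^ (n / m (e.symm i))
  have hFw : ∀ i, GLinSh.HasWeight B.atlas.chart n (F i) := fun i => by
    have := hasWeight_pow B.atlas (hg (e.symm i)).1 (n / m (e.symm i))
    rwa [Nat.div_mul_cancel (hdvd _)] at this
  have hFi : ∀ i, GLinSh.IsInvFn B.lift (F i) := fun i => by
    show B.lift.act.left.appTop _ = (snd G B.V).left.appTop _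
    rw [map_pow, map_pow, (hg (e.symm i)).2]
  have hFU : ∀ i, (U (e.symm i) : Set X.left) = GLinSh.nonvanishing B.π (F i) := fun i => by
    rw [nonvanishing_pow B.atlas (hm _) (hg _).1 (hpos _), hU]
  obtain ⟨c, hc⟩ := exists_comb B hn hFw s fun x hx => ⟨e ⟨x, hx⟩, by
    rw [← hFU, Equiv.symm_apply_apply, hU]; exact hxg ⟨x, hx⟩⟩
  refine ⟨n, comb B c F, nvOpen B.atlas hn (hasWeight_comb B c hFw), hn,
    ⟨hasWeight_comb B c hFw, isInvFn_comb B c hFi⟩, rfl, isAffineOpen_comb B hn c hFw hFU fun i => hUa _, hc,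
    fun hst => closedOrbitsOn_of_cover B hFi hFU (fun i => hUc _ (hst _ (e.symm i).2)) fun x hx => ?_⟩
  obtain ⟨i, hi⟩ := exists_mem_of_mem_comb B hn c hFw (hx : x ∈ GLinSh.nonvanishing B.π _)
  exact ⟨i, (hFU i).ge hi⟩

end Groth.Agent.GITSS
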