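import Groth.Agent.GITSS.Invar
import Groth.Agent.GITAff.Quot
import Groth.Agent.PnCoh.Chow.Proper
import Mathlib.AlgebraicGeometry.IdealSheaf.Subscheme

/-!
# The quotient of the union of the charts inside projective space
-/

set_option autoImplicit false
set_option backward.isDefEq.respectTransparency false
set_option backward.isDefEq.respectTransparency.types false
set_option linter.style.haveILetI false

universe u

open CategoryTheory CategoryTheory.Limits MonoidalCategory CartesianMonoidalCategory MonObj AlgebraicGeometry Opposite TopologicalSpace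

noncomputable section

namespace Groth.Agent.GITSS

open HMProj

variable {k : Type u} [Field k] {G X : Over (Spec (CommRingCat.of k))} [GrpObj G] {a : AlgGrp.Action G X}

namespace Charts

variable {B : GLinSh.LinBun G a} (C : Charts B)

/-- The invariant functions on each chart are polynomials in the ratios. -/
def Generated : Prop :=
  ∀ (i : C.κ) (r : Γ((C.U i).toScheme, ⊤)),
    (∀ act : G ⊗ opS (C.U i) ⟶ opS (C.U i), act ≫ iS (C.U i) = (G ◁ iS (C.U i)) ≫ a.act →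
      act.left.appTop r = (snd G (opS (C.U i))).left.appTop r) →
    ∃ p : MvPolynomial (Fin (C.N + 1)) k, C.coord (C.U i).ι i (C.U i).ι_preimage_self.ge p = r

/-- A standard chart of projective space. -/
abbrev D (l : Fin (C.N + 1)) : (pr k C.N).left.Opens :=
  Proj.basicOpen (CohB1.polyGrading C.N k) (MvPolynomial.X l)

/-- The union of the standard charts used. -/
def Wt : (pr k C.N).left.Opens := ⨆ i, C.D (C.idx i)

theorem range_ψ₀ : Set.range C.ψ₀.base ⊆ Set.range C.Wt.ι.base := by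
  rw [Scheme.Opens.range_ι]
  rintro _ ⟨x, rfl⟩
  obtain ⟨i, hi⟩ := Opens.mem_iSup.mp (show x.1 ∈ ⨆ i, C.U i from x.2)
  refine Opens.mem_iSup.mpr ⟨i, ?_⟩
  have h : x ∈ (C.ψ₀ ⁻¹ᵁ C.D (C.idx i) : Set C.tot.toScheme) := by
    rw [C.preimage_D (C.idx i)]; exact (C.hU i).le hi
  exact h

/-- The morphism into the union of the standard charts. -/
def ψW : C.tot.toScheme ⟶ C.Wt.toScheme := IsOpenImmersion.lift C.Wt.ι C.ψ₀ C.range_ψ₀

theorem ψW_ι : C.ψW ≫ C.Wt.ι = C.ψ₀ := IsOpenImmersion.lift_fac _ _ _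

/-- The standard charts inside the union. -/
abbrev O (i : C.κ) : C.Wt.toScheme.Opens := C.Wt.ι ⁻¹ᵁ C.D (C.idx i)

theorem preimage_O (i : C.κ) : C.ψW ⁻¹ᵁ C.O i = C.tot.ι ⁻¹ᵁ C.U i := by
  refine Opens.ext ?_
  rw [← Scheme.Hom.comp_preimage, ψW_ι, C.preimage_D, ← C.hU]
  rfl

theorem iSup_O : ⨆ i, C.O i = ⊤ := top_le_iff.mp fun x _ => by
  obtain ⟨i, hi⟩ := Opens.mem_iSup.mp (show x.1 ∈ ⨆ i, C.D (C.idx i) from x.2)
  exact Opens.mem_iSup.mpr ⟨i, hi⟩

theorem isAffineOpen_O (i : C.κ) : IsAffineOpen (C.O i) :=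
  (Proj.isAffineOpen_basicOpen _ _ (ProjPt.X_mem (C.idx i)) one_pos).preimage_of_isOpenImmersion C.Wt.ι
    (by rw [Scheme.Opens.opensRange_ι]; exact le_iSup (fun i => C.D (C.idx i)) i)

theorem isAffineOpen_piece (i : C.κ) : IsAffineOpen (C.tot.ι ⁻¹ᵁ C.U i) :=
  (C.hUa i).preimage_of_isOpenImmersion C.tot.ι (by rw [Scheme.Opens.opensRange_ι]; exact le_iSup C.U i)

instance isAffineHom_ψW : IsAffineHom C.ψW :=
  IsZariskiLocalAtTarget.of_iSup_eq_top (P := @IsAffineHom) C.O C.iSup_O fun i => by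
    haveI : IsAffine (C.O i).toScheme := C.isAffineOpen_O i
    haveI : IsAffine (C.ψW ⁻¹ᵁ C.O i).toScheme := by rw [preimage_O]; exact C.isAffineOpen_piece i
    exact isAffineHom_of_isAffine _

/-- The embedding of the quotient into projective space. -/
def emb : C.ψW.image ⟶ (pr k C.N).left := C.ψW.imageι ≫ C.Wt.ι

/-- The quotient. -/
def Y : Over (Spec (CommRingCat.of k)) := Over.mk (C.emb ≫ (pr k C.N).hom)

/-- The embedding over the field. -/
def embO : C.Y ⟶ pr k C.N := Over.homMk C.emb rfl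

/-- The quotient map. -/
def φ : opS C.tot ⟶ C.Y := Over.homMk C.ψW.toImage (by
  show C.ψW.toImage ≫ (C.ψW.imageι ≫ C.Wt.ι) ≫ _ = C.tot.ι ≫ X.hom
  rw [← Category.assoc, ← Category.assoc, Scheme.Hom.toImage_imageι, ψW_ι, ψ₀_toBase])

theorem φ_embO : C.φ ≫ C.embO = C.ψ := Over.OverMorphism.ext (by
  show C.ψW.toImage ≫ C.ψW.imageι ≫ C.Wt.ι = C.ψ₀
  rw [← Category.assoc, Scheme.Hom.toImage_imageι, ψW_ι])

theorem mono_embO : Mono C.embO := by
  haveI : Mono ((Over.forget _).map C.embO) := inferInstanceAs (Mono (C.ψW.imageι ≫ C.Wt.ι))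
  exact (Over.forget _).mono_of_mono_map ‹_›

theorem φ_invariant (aU : AlgGrp.Action G (opS C.tot)) (haU : aU.act ≫ iS C.tot = (G ◁ iS C.tot) ≫ a.act) :
    GIT.IsInvariant aU C.φ := by
  haveI := C.mono_embO
  show aU.act ≫ C.φ = snd G _ ≫ C.φ
  rw [← cancel_mono C.embO, Category.assoc, Category.assoc, φ_embO]
  exact C.ψ_invariant aU haU

/-- The pieces of the quotient. -/
def Yi (i : C.κ) : C.Y.left.Opens := C.ψW.imageι ⁻¹ᵁ C.O i

theorem exists_mem_Yi (y : C.Y.left) : ∃ i, y ∈ C.Yi i := by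
  obtain ⟨i, hi⟩ := Opens.mem_iSup.mp (C.iSup_O.ge (trivial : C.ψW.imageι.base y ∈ ⊤))
  exact ⟨i, hi⟩

theorem preimage_Yi (i : C.κ) : C.φ.left ⁻¹ᵁ C.Yi i = C.tot.ι ⁻¹ᵁ C.U i := by
  show C.ψW.toImage ⁻¹ᵁ (C.ψW.imageι ⁻¹ᵁ C.O i) = _
  rw [← Scheme.Hom.comp_preimage, Scheme.Hom.toImage_imageι, preimage_O]

theorem isAffineOpen_Yi (i : C.κ) : IsAffineOpen (C.Yi i) := (C.isAffineOpen_O i).preimage C.ψW.imageι

instance isAffineHom_φ : IsAffineHom C.φ.left :=
  IsZariskiLocalAtTarget.of_iSup_eq_top (P := @IsAffineHom) C.Yi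
    (top_le_iff.mp fun y _ => Opens.mem_iSup.mpr (C.exists_mem_Yi y)) fun i => by
    haveI : IsAffine (C.Yi i).toScheme := C.isAffineOpen_Yi i
    haveI : IsAffine (C.φ.left ⁻¹ᵁ C.Yi i).toScheme := by rw [preimage_Yi]; exact C.isAffineOpen_piece i
    exact isAffineHom_of_isAffine _

theorem app_Yi_injective (i : C.κ) : Function.Injective (C.φ.left.app (C.Yi i)) := by
  rw [injective_iff_map_eq_zero]
  intro y hy
  obtain ⟨z, rfl⟩ := C.ψW.ker.subschemeι_app_surjective ⟨C.O i, C.isAffineOpen_O i⟩ y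
  have hz : z ∈ C.ψW.ker.ideal ⟨C.O i, C.isAffineOpen_O i⟩ := by
    rw [Scheme.Hom.ker_apply, RingHom.mem_ker]
    have h := ConcreteCategory.congr_hom (Scheme.Hom.congr_app C.ψW.toImage_imageι (C.O i)) z
    rw [Scheme.Hom.comp_app, CommRingCat.comp_apply, CommRingCat.comp_apply] at h
    have h0 : C.ψW.toImage.app (C.ψW.imageι ⁻¹ᵁ C.O i) (C.ψW.imageι.app (C.O i) z) = 0 := hy
    erw [h0] at h
    exact (map_eq_zero_iff _ (ConcreteCategory.bijective_of_isIso _).1).1 h.symm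
  rw [← C.ψW.ker.ker_subschemeι_app] at hz
  exact hz

theorem appTop_resS {Z Y' : Over (Spec (CommRingCat.of k))} (φ : Z ⟶ Y') (U : Y'.left.Opens) (r : Γ(U.toScheme, ⊤)) :
    (φ.left ⁻¹ᵁ U).topIso.hom ((resS φ U).left.appTop r) = φ.left.app U (U.topIso.hom r) := by
  show ((φ.left ∣_ U).appTop ≫ (φ.left ⁻¹ᵁ U).topIso.hom) r = (U.topIso.hom ≫ φ.left.app U) r
  rw [Scheme.Hom.appTop, morphismRestrict_app, Scheme.Opens.topIso_hom, Scheme.Opens.topIso_hom,
    Scheme.Hom.naturality, Category.assoc, ← Functor.map_comp]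
  rfl

/-- The quotient map is the affine invariant quotient over each piece. -/
theorem fnQuot_Yi (hgen : C.Generated) (aU : AlgGrp.Action G (opS C.tot))
    (haU : aU.act ≫ iS C.tot = (G ◁ iS C.tot) ≫ a.act) (i : C.κ)
    (aZ : AlgGrp.Action G (opS (C.φ.left ⁻¹ᵁ C.Yi i))) (haZ : aZ.act ≫ iS _ = (G ◁ iS _) ≫ aU.act) :
    GITAff.FnQuot aZ (resS C.φ (C.Yi i)) := by
  refine ⟨invariant_resS (C.φ_invariant aU haU) aZ haZ, fun y y' h => ?_, fun r hr => ?_⟩
  · have e1 := appTop_resS C.φ (C.Yi i) y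
    have e2 := appTop_resS C.φ (C.Yi i) y'
    have h' : (resS C.φ (C.Yi i)).left.appTop y = (resS C.φ (C.Yi i)).left.appTop y' := h
    rw [h'] at e1
    exact (ConcreteCategory.bijective_of_isIso (C.Yi i).topIso.hom).1 (C.app_Yi_injective i (e1.symm.trans e2))
  · let Z := opS (C.φ.left ⁻¹ᵁ C.Yi i)
    let j : Z ⟶ X := iS _ ≫ iS C.tot
    haveI : IsOpenImmersion j.left := by
      show IsOpenImmersion ((C.φ.left ⁻¹ᵁ C.Yi i).ι ≫ C.tot.ι)
      infer_instance
    have hj : aZ.act ≫ j = (G ◁ j) ≫ a.act := by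
      rw [← Category.assoc, haZ, Category.assoc, haU, ← Category.assoc, ← MonoidalCategory.whiskerLeft_comp]
    have hjr : Set.range j.left.base = (C.U i : Set X.left) := by
      ext x
      constructor
      · rintro ⟨z, rfl⟩
        exact (C.preimage_Yi i).le z.2
      · intro hx
        have hxt : x ∈ C.tot := (le_iSup C.U i : C.U i ≤ C.tot) hx
        exact ⟨⟨⟨x, hxt⟩, (C.preimage_Yi i).ge hx⟩, rfl⟩
    let e₀ : (C.U i).toScheme ⟶ Z.left := IsOpenImmersion.lift j.left (C.U i).ι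
      (by rw [Scheme.Opens.range_ι]; exact hjr.ge)
    have he₀ : e₀ ≫ j.left = (C.U i).ι := IsOpenImmersion.lift_fac _ _ _
    haveI : IsIso e₀ := by
      refine (IsOpenImmersion.isoOfRangeEq (C.U i).ι j.left ?_).isIso_hom
      rw [Scheme.Opens.range_ι]
      exact hjr.symm
    let e : opS (C.U i) ⟶ Z := Over.homMk e₀ (by rw [← Over.w j, ← Category.assoc, he₀]; rfl)
    have hej : e ≫ j = iS (C.U i) := Over.OverMorphism.ext he₀
    haveI : Mono j := by
      haveI : Mono ((Over.forget _).map j) := inferInstanceAs (Mono j.left)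
      exact (Over.forget _).mono_of_mono_map ‹_›
    obtain ⟨p, hp⟩ := hgen i (e.left.appTop r) (fun act hact => by
      have h1 : act ≫ e = (G ◁ e) ≫ aZ.act := by
        rw [← cancel_mono j, Category.assoc, Category.assoc, hej, hj, hact, ← Category.assoc,
          ← MonoidalCategory.whiskerLeft_comp, hej]
      rw [← CommRingCat.comp_apply, ← Scheme.Hom.comp_appTop, ← Over.comp_left, h1, Over.comp_left,
        Scheme.Hom.comp_appTop, CommRingCat.comp_apply, show aZ.act.left.appTop r = (snd G Z).left.appTop r from hr,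
        ← CommRingCat.comp_apply, ← Scheme.Hom.comp_appTop, ← Over.comp_left, whiskerLeft_snd, Over.comp_left,
        Scheme.Hom.comp_appTop, CommRingCat.comp_apply])
    have hjU : ⊤ ≤ j.left ⁻¹ᵁ C.U i := fun z _ => hjr.le ⟨z, rfl⟩
    have hjp : C.coord j.left i hjU p = r := by
      refine (ConcreteCategory.bijective_of_isIso e₀.appTop).1 ?_
      have h := congrArg (fun f => f p)
        (C.comp_coord e₀ j.left i hjU (by rw [he₀]; exact (C.U i).ι_preimage_self.ge))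
      refine h.trans (Eq.trans ?_ hp)
      simp only [he₀]
    let q : opS (C.Yi i) ⟶ pr k C.N := iS (C.Yi i) ≫ C.embO
    have hq : ⊤ ≤ q.left ⁻¹ᵁ C.D (C.idx i) := fun z _ => z.2
    let A : HomogeneousLocalization.Away (CohB1.polyGrading C.N k) (MvPolynomial.X (C.idx i)) :=
      MvPolynomial.eval₂Hom (ProjPt.cst (C.idx i)) (ProjPt.crd (C.idx i)) p
    refine ⟨q.left.appLE (C.D (C.idx i)) ⊤ hq ((Proj.awayToSection _ _).hom A), ?_⟩
    show (resS C.φ (C.Yi i)).left.appTop _ = r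
    have hc : (resS C.φ (C.Yi i)).left ≫ q.left = C.ptC j.left i hjU := by
      have h : resS C.φ (C.Yi i) ≫ q = iS _ ≫ C.ψ := by
        rw [← φ_embO, ← Category.assoc, ← Category.assoc, (isPullback_resS C.φ (C.Yi i)).w]
      refine (congrArg CommaMorphism.left h).trans ?_
      exact C.comp_ψ₀ (iS (C.φ.left ⁻¹ᵁ C.Yi i)).left i hjU
    have hpc : ⊤ ≤ C.ptC j.left i hjU ⁻¹ᵁ C.D (C.idx i) := by rw [← hc]; exact fun z _ => hq trivial
    have key : (resS C.φ (C.Yi i)).left.appTop (q.left.appLE (C.D (C.idx i)) ⊤ hq ((Proj.awayToSection _ _).hom A)) =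
        (C.ptC j.left i hjU).appLE (C.D (C.idx i)) ⊤ hpc ((Proj.awayToSection _ _).hom A) := by
      have h1 := Scheme.Hom.appLE_comp_appLE (resS C.φ (C.Yi i)).left q.left (C.D (C.idx i)) ⊤ ⊤ hq le_top
      rw [show (resS C.φ (C.Yi i)).left.appLE ⊤ ⊤ le_top = (resS C.φ (C.Yi i)).left.appTop from
        ((resS C.φ (C.Yi i)).left.app_eq_appLE (U := ⊤)).symm] at h1
      refine (ConcreteCategory.congr_hom h1 _).trans ?_
      simp only [hc]
      rfl
    rw [key]
    refine (ProjPt.pt_appLE _ _ _ _ _ hpc A).trans ?_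
    rw [← hjp]
    show ProjPt.coordHom _ _ _ (MvPolynomial.eval₂Hom _ _ p) = _
    rw [MvPolynomial.map_eval₂Hom]
    refine congrArg (fun f : _ →+* _ => f p) (MvPolynomial.ringHom_ext (fun c => ?_) fun l => ?_)
    · rw [MvPolynomial.eval₂Hom_C, RingHom.comp_apply, ProjPt.coordHom_cst]
    · rw [MvPolynomial.eval₂Hom_X', ProjPt.coordHom_crd _ _ _ (C.coord_unit j.left i hjU)]

/-- The universal categorical quotient. -/
theorem isUnivCatQuot_φ [IsAffine G.left] [Smooth G.hom] {β : GrpSchLib.Kunneth.Fn G →ₗ[k] k} (hβ : GITAff.IsInv β)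
    (hgen : C.Generated) (aU : AlgGrp.Action G (opS C.tot)) (haU : aU.act ≫ iS C.tot = (G ◁ iS C.tot) ≫ a.act) :
    GIT.IsUnivCatQuot aU C.φ ∧ GIT.IsUnivSubmersive C.φ.left := by
  have h : ∀ (i : C.κ) (aZ : AlgGrp.Action G (opS (C.φ.left ⁻¹ᵁ C.Yi i))), aZ.act ≫ iS _ = (G ◁ iS _) ≫ aU.act →
      GIT.IsUnivCatQuot aZ (resS C.φ (C.Yi i)) ∧ GIT.IsUnivSubmersive (resS C.φ (C.Yi i)).left := fun i aZ haZ => by
    haveI : IsAffine (opS (C.φ.left ⁻¹ᵁ C.Yi i)).left := by
      show IsAffine (C.φ.left ⁻¹ᵁ C.Yi i).toScheme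
      rw [preimage_Yi]; exact C.isAffineOpen_piece i
    haveI : IsAffine (opS (C.Yi i)).left := C.isAffineOpen_Yi i
    exact GITAff.isUnivCatQuot hβ (C.fnQuot_Yi hgen aU haU i aZ haZ)
  refine ⟨isUnivCatQuot_of_cover (C.φ_invariant aU haU) C.Yi C.exists_mem_Yi fun i aZ haZ => (h i aZ haZ).1,
    isUnivSubmersive_of_cover C.φ.left C.Yi C.exists_mem_Yi fun i => ?_⟩
  obtain ⟨aZ, haZ, -⟩ := GITQuot.exists_action (C.φ_invariant aU haU) (isPullback_resS C.φ (C.Yi i))
  exact (h i aZ haZ).2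

theorem isSeparated_Y : IsSeparated C.Y.hom := by
  haveI : IsProper (pr k C.N).hom := PnCoh.Chow.isProper_toSpec C.N k
  show IsSeparated ((C.ψW.imageι ≫ C.Wt.ι) ≫ (pr k C.N).hom)
  infer_instance

theorem locallyOfFiniteType_Y : LocallyOfFiniteType C.Y.hom := by
  haveI : IsProper (pr k C.N).hom := PnCoh.Chow.isProper_toSpec C.N k
  show LocallyOfFiniteType ((C.ψW.imageι ≫ C.Wt.ι) ≫ (pr k C.N).hom)
  infer_instance

end Charts

end Groth.Agent.GITSS
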