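import Groth.Agent.GITSS.Chart
import Groth.Agent.HMProj.Affine

/-!
# The morphism given by invariant sections is invariant
-/

set_option autoImplicit false
set_option backward.isDefEq.respectTransparency false
set_option backward.isDefEq.respectTransparency.types false
set_option linter.style.haveILetI false

universe u

open CategoryTheory CategoryTheory.Limits MonoidalCategory CartesianMonoidalCategory MonObj AlgebraicGeometry Opposite TopologicalSpace

noncomputable section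

namespace Groth.Agent.GITSS

open HMProj

variable {k : Type u} [Field k] {G X : Over (Spec (CommRingCat.of k))} [GrpObj G] {a : AlgGrp.Action G X}

/-- A section of the bundle over an affine piece of a chart on which the coordinate is one. -/
theorem exists_unit_section (B : GLinSh.LinBun G a) {U' W : X.left.Opens} (hWa : IsAffineOpen W) (hW : W ≤ U')
    {y : Γ(B.V.left, B.π.left ⁻¹ᵁ U')} (hy : y ∈ B.atlas.chart U') :
    ∃ σ : opS W ⟶ B.V, σ ≫ B.π = iS W ∧ ∀ (n : ℕ) (f : Γ(B.V.left, ⊤)) (c : Γ(X.left, W)),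
      IsCoeff B.π (GLinSh.res B.π hW y) n f c → σ.left.appTop f = W.topIso.inv c := by
  haveI := B.atlas.affine
  have hVa : IsAffineOpen (B.π.left ⁻¹ᵁ W) := hWa.preimage B.π.left
  let E := RingEquiv.ofBijective _ (B.atlas.coord U' y hy W hWa hW)
  let φ : Γ(B.V.left, B.π.left ⁻¹ᵁ W) →+* Γ(X.left, W) := (Polynomial.evalRingHom 1).comp E.symm.toRingHom
  have hEπ : ∀ c, φ (B.π.left.app W c) = c := fun c => by
    show Polynomial.eval 1 (E.symm (B.π.left.app W c)) = c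
    rw [show E.symm (B.π.left.app W c) = Polynomial.C c from by rw [RingEquiv.symm_apply_eq]; simp [E],
      Polynomial.eval_C]
  have hEy : φ (GLinSh.res B.π hW y) = 1 := by
    show Polynomial.eval 1 (E.symm (GLinSh.res B.π hW y)) = 1
    rw [show E.symm (GLinSh.res B.π hW y) = Polynomial.X from by rw [RingEquiv.symm_apply_eq]; simp [E],
      Polynomial.eval_X]
  let σ₀ : W.toScheme ⟶ B.V.left := hWa.isoSpec.hom ≫ Spec.map (CommRingCat.ofHom φ) ≫ hVa.fromSpec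
  have hσπ : σ₀ ≫ B.π.left = W.ι := by
    simp only [σ₀, Category.assoc]
    rw [← IsAffineOpen.SpecMap_appLE_fromSpec B.π.left hWa hVa le_rfl, ← Spec.map_comp_assoc, Scheme.Hom.appLE_eq_app,
      show B.π.left.app W ≫ CommRingCat.ofHom φ = 𝟙 _ from CommRingCat.hom_ext (RingHom.ext hEπ), Spec.map_id,
      Category.id_comp, hWa.isoSpec_hom, IsAffineOpen.toSpecΓ_fromSpec]
  refine ⟨Over.homMk σ₀ (by
    show σ₀ ≫ B.V.hom = W.ι ≫ X.hom
    rw [← Over.w B.π, ← Category.assoc, hσπ]), Over.OverMorphism.ext hσπ, fun n f c hc => ?_⟩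
  show σ₀.appTop f = _
  have h' : ⊤ ≤ σ₀ ⁻¹ᵁ (B.π.left ⁻¹ᵁ W) := by
    rw [← Scheme.Hom.comp_preimage, hσπ, W.ι_preimage_self]
  have e1 : σ₀.appTop f = σ₀.appLE (B.π.left ⁻¹ᵁ W) ⊤ h' (GLinSh.resTop B.π W f) := by
    show _ = (B.V.left.presheaf.map _ ≫ σ₀.appLE (B.π.left ⁻¹ᵁ W) ⊤ h') f
    rw [Scheme.Hom.map_appLE, Scheme.Hom.appTop, Scheme.Hom.app_eq_appLE]
    rfl
  have h0 : ⊤ ≤ (Spec.map (CommRingCat.ofHom φ) ≫ hVa.fromSpec) ⁻¹ᵁ (B.π.left ⁻¹ᵁ W) := fun x _ =>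
    hVa.fromSpec_preimage_self.ge (trivial : (Spec.map (CommRingCat.ofHom φ)).base x ∈ ⊤)
  have e2 : ∀ z, σ₀.appLE (B.π.left ⁻¹ᵁ W) ⊤ h' z = W.topIso.inv (φ z) := fun z => by
    have hh := ConcreteCategory.congr_hom
      (Scheme.Hom.appLE_comp_appLE hWa.isoSpec.hom (Spec.map (CommRingCat.ofHom φ) ≫ hVa.fromSpec)
        (B.π.left ⁻¹ᵁ W) ⊤ ⊤ h0 le_top) z
    refine hh.symm.trans ?_
    rw [CommRingCat.comp_apply]
    have h3 := ptVal_fromSpec hVa φ h0 z
    rw [ptVal] at h3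
    have h4 : (Spec.map (CommRingCat.ofHom φ) ≫ hVa.fromSpec).appLE (B.π.left ⁻¹ᵁ W) ⊤ h0 z =
        (Scheme.ΓSpecIso (CommRingCat.of Γ(X.left, W))).inv (φ z) := by
      rw [← h3]
      simp
    erw [h4]
    show ((Scheme.ΓSpecIso (CommRingCat.of Γ(X.left, W))).inv ≫ hWa.isoSpec.hom.appLE ⊤ ⊤ le_top) (φ z) = _
    refine ConcreteCategory.congr_hom ?_ (φ z)
    rw [show hWa.isoSpec.hom.appLE ⊤ ⊤ le_top = hWa.isoSpec.hom.appTop from (hWa.isoSpec.hom.app_eq_appLE (U := ⊤)).symm,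
      IsAffineOpen.isoSpec_hom_appTop]
    exact Iso.inv_hom_id_assoc _ _
  rw [e1, e2, show GLinSh.resTop B.π W f = _ from hc, map_mul, map_pow, hEπ, hEy, one_pow, _root_.mul_one]

namespace Charts

variable {B : GLinSh.LinBun G a} (C : Charts B)

theorem tot_mem_iff (q : (G ⊗ X).left) (i : C.κ) :
    a.act.left.base q ∈ C.U i ↔ (snd G X).left.base q ∈ C.U i := by
  show a.act.left.base q ∈ (C.U i : Set X.left) ↔ (snd G X).left.base q ∈ (C.U i : Set X.left)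
  rw [C.hU]
  exact mem_iff_of_invariant B (C.hg _).2 q

/-- The ratios are invariant. -/
theorem r_invariant (i : C.κ) (l : Fin (C.N + 1)) {T : Over (Spec (CommRingCat.of k))} (σ : T ⟶ B.V)
    (hσ : IsUnit (σ.left.appTop (C.g (C.idx i))))
    (h1 : ⊤ ≤ ((G ◁ σ) ≫ B.lift.act ≫ B.π).left ⁻¹ᵁ C.U i) (h2 : ⊤ ≤ (snd G T ≫ σ ≫ B.π).left ⁻¹ᵁ C.U i) :
    ((G ◁ σ) ≫ B.lift.act ≫ B.π).left.appLE (C.U i) ⊤ h1 (C.r i l) =
      (snd G T ≫ σ ≫ B.π).left.appLE (C.U i) ⊤ h2 (C.r i l) := by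
  let q₁ : G ⊗ T ⟶ B.V := (G ◁ σ) ≫ B.lift.act
  let q₂ : G ⊗ T ⟶ B.V := snd G T ≫ σ
  have key : ∀ (q : G ⊗ T ⟶ B.V) (h : ⊤ ≤ (q ≫ B.π).left ⁻¹ᵁ C.U i),
      q.left.appTop (C.g l) = (q ≫ B.π).left.appLE (C.U i) ⊤ h (C.r i l) * q.left.appTop (C.g (C.idx i)) := by
    intro q h
    have h' : ⊤ ≤ q.left ⁻¹ᵁ (B.π.left ⁻¹ᵁ C.U i) := h
    have e : ∀ f, q.left.appTop f = q.left.appLE (B.π.left ⁻¹ᵁ C.U i) ⊤ h' (GLinSh.resTop B.π (C.U i) f) := fun f => by
      show _ = (B.V.left.presheaf.map _ ≫ q.left.appLE _ _ h') f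
      rw [Scheme.Hom.map_appLE, Scheme.Hom.appTop, Scheme.Hom.app_eq_appLE]
      rfl
    rw [e, e, show GLinSh.resTop B.π (C.U i) (C.g l) = _ from C.r_spec i l, map_mul]
    congr 1
  have hinv : ∀ f, GLinSh.IsInvFn B.lift f → q₁.left.appTop f = q₂.left.appTop f := fun f hf => by
    simp only [q₁, q₂, Over.comp_left, Scheme.Hom.comp_appTop, CommRingCat.comp_apply]
    rw [show B.lift.act.left.appTop f = (snd G B.V).left.appTop f from hf, ← CommRingCat.comp_apply,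
      ← Scheme.Hom.comp_appTop, ← Over.comp_left, whiskerLeft_snd, Over.comp_left, Scheme.Hom.comp_appTop,
      CommRingCat.comp_apply]
  have hu : IsUnit (q₂.left.appTop (C.g (C.idx i))) := by
    simp only [q₂, Over.comp_left, Scheme.Hom.comp_appTop, CommRingCat.comp_apply]
    exact hσ.map _
  have k1 := key q₁ (by simp only [q₁, Category.assoc]; exact h1)
  have k2 := key q₂ (by simp only [q₂, Category.assoc]; exact h2)
  rw [hinv _ (C.hg l).2, hinv _ (C.hg _).2, k2] at k1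
  have := hu.mul_left_injective k1
  simp only [q₁, q₂, Category.assoc] at this
  exact this.symm

/-- The morphism to projective space is invariant. -/
theorem ψ_invariant (aU : AlgGrp.Action G (opS C.tot)) (haU : aU.act ≫ iS C.tot = (G ◁ iS C.tot) ≫ a.act) :
    GIT.IsInvariant aU C.ψ := by
  haveI := B.atlas.affine
  have hpt : ∀ q : (G ⊗ opS C.tot).left, ∃ (i : C.κ) (U' : X.left.Opens) (y : Γ(B.V.left, B.π.left ⁻¹ᵁ U'))
      (W : X.left.Opens), y ∈ B.atlas.chart U' ∧ IsAffineOpen W ∧ W ≤ U' ⊓ C.U i ∧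
        C.tot.ι.base ((snd G (opS C.tot)).left.base q) ∈ W := by
    intro q
    set x := C.tot.ι.base ((snd G (opS C.tot)).left.base q)
    obtain ⟨i, hi⟩ := Opens.mem_iSup.mp (show x ∈ ⨆ i, C.U i from ((snd G (opS C.tot)).left.base q).2)
    obtain ⟨U', hxU', y, hy⟩ := B.atlas.cover x
    obtain ⟨W, hWa, hxW, hW⟩ := Opens.isBasis_iff_nbhd.1 X.left.isBasis_affineOpens (show x ∈ U' ⊓ C.U i from ⟨hxU', hi⟩)
    exact ⟨i, U', y, W, hy, hWa, hW, hxW⟩
  choose i U' y W hy hWa hW hxW using hpt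
  let O : (G ⊗ opS C.tot).left → (G ⊗ opS C.tot).left.Opens := fun q =>
    (snd G (opS C.tot)).left ⁻¹ᵁ (C.tot.ι ⁻¹ᵁ W q)
  show aU.act ≫ C.ψ = snd G _ ≫ C.ψ
  refine Over.OverMorphism.ext (Scheme.Cover.hom_ext ((G ⊗ opS C.tot).left.openCoverOfIsOpenCover O
    (.mk (top_le_iff.mp fun q _ => Opens.mem_iSup.mpr ⟨q, hxW q⟩))) _ _ fun q => ?_)
  show (O q).ι ≫ _ = (O q).ι ≫ _
  have hWi : W q ≤ C.U (i q) := (hW q).trans inf_le_right
  have hWt : W q ≤ C.tot := hWi.trans (le_iSup C.U (i q))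
  let iW : opS (W q) ⟶ opS C.tot := leS hWt
  have hiW : iW ≫ iS C.tot = iS (W q) := leS_iS hWt
  haveI : IsOpenImmersion iW.left := inferInstanceAs (IsOpenImmersion (X.left.homOfLE hWt))
  haveI : IsOpenImmersion (G ◁ iW).left :=
    MorphismProperty.of_isPullback (P := @IsOpenImmersion)
      ((GITQuot.isPullback_left (GITQuot.isPullback_tensorLeft (G := G) iW)).flip) inferInstance
  have hr : Set.range (O q).ι.base ⊆ Set.range (G ◁ iW).left.base := by
    rw [Scheme.Opens.range_ι]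
    intro z hz
    obtain ⟨w, hw, -⟩ := Scheme.exists_preimage_of_isPullback
      (GITQuot.isPullback_left (GITQuot.isPullback_tensorLeft (G := G) iW)) z
      (⟨C.tot.ι.base ((snd G (opS C.tot)).left.base z), hz⟩ : (opS (W q)).left) (C.tot.ι.isOpenEmbedding.injective (by
        show _ = (iW.left ≫ C.tot.ι).base _
        rw [show iW.left ≫ C.tot.ι = (W q).ι from X.left.homOfLE_ι hWt]
        rfl))
    exact ⟨w, hw⟩
  rw [← IsOpenImmersion.lift_fac (G ◁ iW).left (O q).ι hr, Category.assoc, Category.assoc]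
  refine congrArg (_ ≫ ·) ?_
  obtain ⟨σ, hσπ, hσf⟩ := exists_unit_section B (hWa q) ((hW q).trans inf_le_left) (hy q)
  have hσu : IsUnit (σ.left.appTop (C.g (C.idx (i q)))) := by
    obtain ⟨c, hc⟩ := (C.hg (C.idx (i q))).1 (U' q) (y q) (hy q)
    have hc' : IsCoeff B.π (GLinSh.res B.π ((hW q).trans inf_le_left) (y q)) C.n _ (rX ((hW q).trans inf_le_left) c) :=
      IsCoeff.res (π := B.π) (y := y q) (c := c) hc _
    rw [hσf _ _ _ hc']
    refine IsUnit.map (W q).topIso.inv.hom ?_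
    have hle : W q ≤ X.left.basicOpen c := fun z hz =>
      (nonvanishing_inter (B.atlas.coord _ _ (hy q)) C.hn hc).le ⟨(C.hU _).le (hWi hz), (hW q hz).1⟩
    rw [← rX_rX (X.left.basicOpen_le c) hle]
    exact (RingedSpace.isUnit_res_basicOpen _ c).map (X.left.presheaf.map (homOfLE hle).op).hom
  let t₁ : G ⊗ opS (W q) ⟶ opS C.tot := (G ◁ iW) ≫ aU.act
  let t₂ : G ⊗ opS (W q) ⟶ opS C.tot := (G ◁ iW) ≫ snd G _
  have e1 : t₁.left ≫ C.tot.ι = ((G ◁ σ) ≫ B.lift.act ≫ B.π).left := by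
    rw [B.lift_π, ← Category.assoc, ← MonoidalCategory.whiskerLeft_comp, hσπ, ← hiW, MonoidalCategory.whiskerLeft_comp,
      Category.assoc, ← haU]
    simp [t₁]
  have e2 : t₂.left ≫ C.tot.ι = (snd G (opS (W q)) ≫ σ ≫ B.π).left := by
    rw [hσπ, ← hiW, ← Category.assoc (snd G _), ← whiskerLeft_snd]
    rfl
  have h2 : ⊤ ≤ (snd G (opS (W q)) ≫ σ ≫ B.π).left ⁻¹ᵁ C.U (i q) := fun z _ => by
    rw [hσπ]
    exact hWi ((snd G (opS (W q))).left.base z).2
  have h1 : ⊤ ≤ ((G ◁ σ) ≫ B.lift.act ≫ B.π).left ⁻¹ᵁ C.U (i q) := fun z _ => by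
    rw [B.lift_π, ← Category.assoc, ← MonoidalCategory.whiskerLeft_comp, hσπ]
    show a.act.left.base ((G ◁ iS (W q)).left.base z) ∈ C.U (i q)
    rw [tot_mem_iff, ← Scheme.Hom.comp_apply, ← Over.comp_left, whiskerLeft_snd]
    exact hWi ((snd G (opS (W q))).left.base z).2
  show t₁.left ≫ C.ψ₀ = t₂.left ≫ C.ψ₀
  rw [C.comp_ψ₀ t₁.left (i q) (e1 ▸ h1), C.comp_ψ₀ t₂.left (i q) (e2 ▸ h2), C.ptC_congr _ _ e1 (i q) _ h1,
    C.ptC_congr _ _ e2 (i q) _ h2]
  refine ProjPt.pt_congr _ _ _ (MvPolynomial.ringHom_ext (fun z => ?_) fun l => ?_) _ _ _ _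
  · simp only [coord, MvPolynomial.eval₂Hom_C, RingHom.comp_apply]
    simp only [cX, CommRingCat.hom_comp, RingHom.comp_apply]
    simp only [← CommRingCat.comp_apply, Scheme.Hom.appLE_comp_appLE, Over.w]
  · simp only [coord, MvPolynomial.eval₂Hom_X']
    exact C.r_invariant (i q) l σ hσu h1 h2

end Charts

end Groth.Agent.GITSS
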